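import Mathlib.Algebra.CharP.Lemmas
import Mathlib.Algebra.Field.Basic
import Mathlib.Algebra.Ring.Equiv
import Mathlib.Algebra.CharP.Reduced
import Mathlib.Tactic.FieldSimp
import Mathlib.Tactic.Ring
import Mathlib
import Cfsg.Agent.Mrg.Omega.NO3S.ThmB.Best

-- merged: Cfsg.Agent.Omega.NO3S.ThmB.End.Auto
section

/-!
# THEOREM B, end, (L6): autotopisms of a field

`h (b y) = f b * g y` with `h` bijective: `h = h 1 · σ`, `f = f 1 · σ`, `g = g 1 · σ` for a ring automorphism `σ`.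
-/

set_option autoImplicit false

namespace Cfsg.Agent.Omega.NO3S.ThmB.End.Auto

variable {F : Type*} [Field F] {h f g : F →+ F}

theorem h_one (H : ∀ b y, h (b * y) = f b * g y) : h 1 = f 1 * g 1 := by rw [← H, mul_one]

theorem h_one_ne (hb : Function.Bijective h) : h 1 ≠ 0 := fun h0 =>
  one_ne_zero (hb.1 (h0.trans (map_zero h).symm))

theorem f_one_ne (hb : Function.Bijective h) (H : ∀ b y, h (b * y) = f b * g y) : f 1 ≠ 0 := fun h0 =>
  h_one_ne hb (by rw [h_one H, h0, zero_mul])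

theorem g_one_ne (hb : Function.Bijective h) (H : ∀ b y, h (b * y) = f b * g y) : g 1 ≠ 0 := fun h0 =>
  h_one_ne hb (by rw [h_one H, h0, mul_zero])

/-- the ring automorphism as a homomorphism -/
def sigHom (hb : Function.Bijective h) (H : ∀ b y, h (b * y) = f b * g y) : F →+* F where
  toFun x := (h 1)⁻¹ * h x
  map_one' := inv_mul_cancel₀ (h_one_ne hb)
  map_zero' := by rw [map_zero, mul_zero]
  map_add' x y := by rw [map_add, mul_add]
  map_mul' x y := by
    have hf := f_one_ne hb H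
    have hg := g_one_ne hb H
    have h1 : h x = f x * g 1 := by rw [← H, mul_one]
    have h2 : h y = f 1 * g y := by rw [← H, one_mul]
    rw [H x y, h1, h2, h_one H]
    field_simp

theorem sigHom_bij (hb : Function.Bijective h) (H : ∀ b y, h (b * y) = f b * g y) :
    Function.Bijective (sigHom hb H) := by
  refine ⟨fun x y hxy => hb.1 ?_, fun y => ?_⟩
  · exact mul_left_cancel₀ (inv_ne_zero (h_one_ne hb)) hxy
  · obtain ⟨x, hx⟩ := hb.2 (h 1 * y)
    refine ⟨x, ?_⟩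
    change (h 1)⁻¹ * h x = y
    rw [hx, inv_mul_cancel_left₀ (h_one_ne hb)]

/-- the ring automorphism -/
noncomputable def sig (hb : Function.Bijective h) (H : ∀ b y, h (b * y) = f b * g y) : F ≃+* F :=
  RingEquiv.ofBijective (sigHom hb H) (sigHom_bij hb H)

theorem h_eq (hb : Function.Bijective h) (H : ∀ b y, h (b * y) = f b * g y) (x : F) : h x = h 1 * sig hb H x := by
  change h x = h 1 * ((h 1)⁻¹ * h x)
  rw [mul_inv_cancel_left₀ (h_one_ne hb)]

theorem f_eq (hb : Function.Bijective h) (H : ∀ b y, h (b * y) = f b * g y) (x : F) : f x = f 1 * sig hb H x := by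
  have h1 : h x = f x * g 1 := by rw [← H, mul_one]
  have h2 := h_eq hb H x
  rw [h1, h_one H] at h2
  have h3 : f x * g 1 = f 1 * sig hb H x * g 1 := by rw [h2]; ring
  exact mul_right_cancel₀ (g_one_ne hb H) h3

theorem g_eq (hb : Function.Bijective h) (H : ∀ b y, h (b * y) = f b * g y) (x : F) : g x = g 1 * sig hb H x := by
  have h1 : h x = f 1 * g x := by rw [← H, one_mul]
  have h2 := h_eq hb H x
  rw [h1, h_one H] at h2
  have h3 : f 1 * g x = f 1 * (g 1 * sig hb H x) := by rw [h2]; ring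
  exact mul_left_cancel₀ (f_one_ne hb H) h3

/-- **(L6).** -/
theorem autotopism (hb : Function.Bijective h) (H : ∀ b y, h (b * y) = f b * g y) :
    h 1 ≠ 0 ∧ f 1 ≠ 0 ∧ g 1 ≠ 0 ∧ ∃ σ : F ≃+* F, (∀ x, h x = h 1 * σ x) ∧ (∀ x, f x = f 1 * σ x) ∧
      ∀ x, g x = g 1 * σ x :=
  ⟨h_one_ne hb, f_one_ne hb H, g_one_ne hb H, sig hb H, h_eq hb H, f_eq hb H, g_eq hb H⟩

/-- if `h = id`, then `σ = 1` and `f`, `g` are multiplications by inverse scalars -/
theorem of_id (H : ∀ b y, h (b * y) = f b * g y) (hid : ∀ x, h x = x) :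
    f 1 * g 1 = 1 ∧ (∀ x, f x = f 1 * x) ∧ ∀ x, g x = g 1 * x := by
  have hb : Function.Bijective h := by
    have : (h : F → F) = id := funext hid
    rw [this]
    exact Function.bijective_id
  have h1 : ∀ x, sig hb H x = x := fun x => by
    have h2 := h_eq hb H x
    rw [hid, hid, one_mul] at h2
    exact h2.symm
  refine ⟨by rw [← h_one H, hid], fun x => ?_, fun x => ?_⟩
  · have h2 := f_eq hb H x
    rwa [h1] at h2
  · have h2 := g_eq hb H x
    rwa [h1] at h2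

/-- no element of 2-power order in a field of characteristic 2 -/
theorem eq_one_of_pow [CharP F 2] {c : F} {n : ℕ} (h : c ^ 2 ^ n = 1) : c = 1 := by
  have : Fact (Nat.Prime 2) := ⟨Nat.prime_two⟩
  have h1 : (c - 1) ^ 2 ^ n = 0 := by rw [sub_pow_char_pow, one_pow, h, sub_self]
  exact sub_eq_zero.1 (pow_eq_zero_iff (pow_ne_zero _ two_ne_zero) |>.1 h1)

/-- iterates of `x ↦ c * x` -/
theorem iterate_mul (c : F) {f : F → F} (hf : ∀ x, f x = c * x) (n : ℕ) (x : F) : f^[n] x = c ^ n * x := by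
  induction n generalizing x with
  | zero => simp
  | succ n ih => rw [Function.iterate_succ_apply, ih, hf, pow_succ]; ring

/-- a multiplication of 2-power order is trivial in characteristic 2 -/
theorem eq_id_of_iterate [CharP F 2] (c : F) {f : F → F} (hf : ∀ x, f x = c * x) {n : ℕ}
    (h : ∀ x, f^[2 ^ n] x = x) (x : F) : f x = x := by
  have h1 := h 1
  rw [iterate_mul c hf, mul_one] at h1
  rw [hf, eq_one_of_pow h1, one_mul]

end Cfsg.Agent.Omega.NO3S.ThmB.End.Auto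

end

-- merged: Cfsg.Agent.Omega.NO3S.ThmB.End.AutTwo
section

/-!
Automorphisms of `2`-power order of a finite field generate comparable cyclic groups.
-/

set_option autoImplicit false

namespace Cfsg.Agent.Omega.NO3S.ThmB.End.AutTwo

/-- In a finite cyclic group, an element whose order divides the order of another one is a power of
it. -/
theorem mem_zpowers {G : Type*} [Group G] [Finite G] [IsCyclic G] {a b : G}
    (h : orderOf a ∣ orderOf b) : a ∈ Subgroup.zpowers b := by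
  classical
  have : Fintype G := Fintype.ofFinite G
  have h1 : (Finset.univ.filter fun x : G => x ^ orderOf b = 1).card ≤ orderOf b :=
    IsCyclic.card_pow_eq_one_le (orderOf_pos b)
  have h2 : (Subgroup.zpowers b : Set G).toFinset ⊆ Finset.univ.filter fun x : G => x ^ orderOf b = 1 := by
    intro x hx
    rw [Set.mem_toFinset] at hx
    obtain ⟨k, rfl⟩ := hx
    simp only [Finset.mem_filter, Finset.mem_univ, true_and]
    rw [← zpow_natCast, ← zpow_mul, mul_comm, zpow_mul, zpow_natCast, pow_orderOf_eq_one, one_zpow]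
  have h3 : (Subgroup.zpowers b : Set G).toFinset.card = orderOf b := by
    rw [Set.toFinset_card]
    exact Fintype.card_zpowers
  have h4 := Finset.eq_of_subset_of_card_le h2 (by rw [h3]; exact h1)
  have h5 : a ∈ Finset.univ.filter fun x : G => x ^ orderOf b = 1 := by
    simp only [Finset.mem_filter, Finset.mem_univ, true_and]
    exact orderOf_dvd_iff_pow_eq_one.1 h
  rw [← h4, Set.mem_toFinset] at h5
  exact h5

/-- The automorphism group of a finite field is cyclic. -/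
theorem isCyclic_ringAut (F : Type*) [Field F] [Finite F] : IsCyclic (RingAut F) := by
  obtain ⟨p, hp⟩ := CharP.exists F
  have : Fact p.Prime := ⟨CharP.char_is_prime F p⟩
  let _ := ZMod.algebra F p
  have h1 : IsCyclic (F ≃ₐ[ZMod p] F) := inferInstance
  refine isCyclic_of_surjective
    ({ toFun := fun f => f.toRingEquiv, map_one' := rfl, map_mul' := fun _ _ => rfl } :
      (F ≃ₐ[ZMod p] F) →* RingAut F) ?_
  intro s
  refine ⟨AlgEquiv.ofRingEquiv (f := s) (fun x => ?_), ?_⟩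
  · have h2 : (s : F →+* F).comp (algebraMap (ZMod p) F) = algebraMap (ZMod p) F :=
      Subsingleton.elim _ _
    exact RingHom.congr_fun h2 x
  · ext x
    rfl

/-- Automorphisms of `2`-power order of a finite field are comparable. -/
theorem mem_or_mem {F : Type*} [Field F] [Finite F] {s t : RingAut F} {a b : ℕ}
    (hs : orderOf s = 2 ^ a) (ht : orderOf t = 2 ^ b) :
    s ∈ Subgroup.zpowers t ∨ t ∈ Subgroup.zpowers s := by
  have := isCyclic_ringAut F
  have : Finite (RingAut F) := Finite.of_injective (fun f : RingAut F => (f : F → F))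
    (fun f g h => RingEquiv.ext (congrFun h))
  rcases le_total a b with h | h
  · exact Or.inl (mem_zpowers (by rw [hs, ht]; exact pow_dvd_pow 2 h))
  · exact Or.inr (mem_zpowers (by rw [hs, ht]; exact pow_dvd_pow 2 h))

/-- Automorphisms of a finite field which generate `2`-groups are comparable. -/
theorem mem_or_mem' {F : Type*} [Field F] [Finite F] {s t : RingAut F}
    (hs : ∃ a : ℕ, s ^ 2 ^ a = 1) (ht : ∃ b : ℕ, t ^ 2 ^ b = 1) :
    s ∈ Subgroup.zpowers t ∨ t ∈ Subgroup.zpowers s := by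
  obtain ⟨a, ha⟩ := hs
  obtain ⟨b, hb⟩ := ht
  obtain ⟨a', -, ha'⟩ := (Nat.dvd_prime_pow Nat.prime_two).1 (orderOf_dvd_of_pow_eq_one ha)
  obtain ⟨b', -, hb'⟩ := (Nat.dvd_prime_pow Nat.prime_two).1 (orderOf_dvd_of_pow_eq_one hb)
  exact mem_or_mem ha' hb'

end Cfsg.Agent.Omega.NO3S.ThmB.End.AutTwo

end

-- merged: Cfsg.Agent.Mrg.Omega.NO3S.ThmB.Cyc
section

/-!
# THEOREM B, end: `N_S([V, B])` acts on `[V, B]` as a cyclic group

`B` acts on `V` as the root group of the `i`-th summand (`One M U B i`).  An element `s` of `S` which normalises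
`[V, B]` fixes the `i`-th summand; on the line it is `x ↦ c σ(x)`, `σ ∈ Aut(F)`.

* `Fx M i s`, `Pf M i s` : the action on the `i`-th coordinate;
* `Nb.sem` : `c` and `σ`;
* `Nb.cen_of_line` : if `s` is trivial on the line, then `s` centralises `[V, B]`;
* `Nb.chain` : **for `s, t ∈ N_S([V, B])` there is `n` such that `s tⁿ` or `t sⁿ` centralises `[V, B]`.**
-/

set_option autoImplicit false

namespace Cfsg.Agent.Omega.NO3S.ThmB

open Subgroup Cfsg Cfsg.Agent.ZN Cfsg.Agent.ZN.ChoiceBase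
open Cfsg.Agent.Omega.FFThm Cfsg.Agent.Omega.NatPair Cfsg.Agent.Lib.SL2Mat

universe u

variable {G : Type u} [Group G] {F : Type} [Field F] {S P' V D : Subgroup G} {k : ℕ}

/-- `s` fixes the `i`-th summand, its complement, and the `i`-th line. -/
structure Fx (M : NatKM F S P' V D k) (i : Fin k) (s : G) : Prop where
  sP : s ∈ P'
  a1 : ∀ v ∈ V, M.e v i = 0 → M.e (s * v * s⁻¹) i = 0
  a2 : ∀ v ∈ V, (∀ l, l ≠ i → M.e v l = 0) → ∀ l, l ≠ i → M.e (s * v * s⁻¹) l = 0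
  a3 : ∀ v ∈ V, M.e v i 1 = 0 → M.e (s * v * s⁻¹) i 1 = 0

/-- an element of the `i`-th summand -/
noncomputable def wv (M : NatKM F S P' V D k) (i : Fin k) (x : Fin 2 → F) : G :=
  (Nb.exists_single M i x).choose

theorem wv_V (M : NatKM F S P' V D k) (i : Fin k) (x : Fin 2 → F) : wv M i x ∈ V :=
  (Nb.exists_single M i x).choose_spec.1

theorem wv_i (M : NatKM F S P' V D k) (i : Fin k) (x : Fin 2 → F) : M.e (wv M i x) i = x :=
  (Nb.exists_single M i x).choose_spec.2.1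

theorem wv_l (M : NatKM F S P' V D k) (i : Fin k) (x : Fin 2 → F) : ∀ l, l ≠ i → M.e (wv M i x) l = 0 :=
  (Nb.exists_single M i x).choose_spec.2.2

/-- the action of `s` on the `i`-th coordinate -/
noncomputable def Pf (M : NatKM F S P' V D k) (i : Fin k) (s : G) (x : Fin 2 → F) : Fin 2 → F :=
  M.e (s * wv M i x * s⁻¹) i

namespace Nb

variable {M : NatKM F S P' V D k} (h : Nb M)

include h

theorem Pf_spec [CharP F 2] {i : Fin k} {s : G} (hs : Fx M i s) {v : G} (hv : v ∈ V) :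
    M.e (s * v * s⁻¹) i = Pf M i s (M.e v i) := by
  have hw := wv_V M i (M.e v i)
  have h1 := hs.a1 (v * (wv M i (M.e v i))⁻¹) (mul_mem hv (inv_mem hw)) (by
    rw [h.e_div hv hw, Pi.add_apply, wv_i]
    exact congrFun (h.add_self (M.e v)) i)
  have e : s * (v * (wv M i (M.e v i))⁻¹) * s⁻¹ = (s * v * s⁻¹) * (s * wv M i (M.e v i) * s⁻¹)⁻¹ := by group
  rw [e, h.e_div (h.memV hs.sP hv) (h.memV hs.sP hw), Pi.add_apply] at h1
  have h2 := congrArg (· + M.e (s * wv M i (M.e v i) * s⁻¹) i) h1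
  have h3 := congrFun (h.add_self (M.e (s * wv M i (M.e v i) * s⁻¹))) i
  rw [Pi.add_apply, Pi.zero_apply] at h3
  simp only [add_assoc, h3] at h2
  rw [add_zero] at h2
  exact h2.trans (zero_add _)

theorem Pf_add [CharP F 2] {i : Fin k} {s : G} (hs : Fx M i s) (x y : Fin 2 → F) :
    Pf M i s (x + y) = Pf M i s x + Pf M i s y := by
  have h1 : M.e (wv M i x * wv M i y) i = x + y := by
    rw [M.mul _ (wv_V M i x) _ (wv_V M i y), Pi.add_apply, wv_i, wv_i]
  rw [← h1, ← h.Pf_spec hs (mul_mem (wv_V M i x) (wv_V M i y))]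
  have e : s * (wv M i x * wv M i y) * s⁻¹ = (s * wv M i x * s⁻¹) * (s * wv M i y * s⁻¹) := by group
  rw [e, M.mul _ (h.memV hs.sP (wv_V M i x)) _ (h.memV hs.sP (wv_V M i y))]
  rfl

theorem Pf_mul [CharP F 2] {i : Fin k} {s t : G} (hs : Fx M i s) (ht : Fx M i t) (x : Fin 2 → F) :
    Pf M i (s * t) x = Pf M i s (Pf M i t x) := by
  have e : s * t * wv M i x * (s * t)⁻¹ = s * (t * wv M i x * t⁻¹) * s⁻¹ := by group
  rw [Pf, e, h.Pf_spec hs (h.memV ht.sP (wv_V M i x)), h.Pf_spec ht (wv_V M i x), wv_i]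

omit h in
theorem Pf_one {i : Fin k} (x : Fin 2 → F) : Pf M i 1 x = x := by
  rw [Pf, one_mul, inv_one, mul_one, wv_i]

omit h in
theorem Pf_line {i : Fin k} {s : G} (hs : Fx M i s) (x : Fin 2 → F) (hx : x 1 = 0) : Pf M i s x 1 = 0 := by
  rw [Pf]
  exact hs.a3 _ (wv_V M i x) (by rw [wv_i]; exact hx)

/-- the elements of `N_S([V, B])` -/
theorem fx_of [CharP F 2] {U B : Subgroup G} (hB : B ≤ S) {i : Fin k} (O : One M U B i) {s : G} (hs : s ∈ S)
    (hN : s ∈ normalizer ((⁅V, B⁆ : Subgroup G) : Set G)) : Fx M i s := by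
  have hsP := h.SP' hs
  obtain ⟨σ, hσ⟩ := M.perm s hsP
  -- `σ i = i`
  have hσi : σ i = i := by
    obtain ⟨x, hx, hxi⟩ := h.exists_comm hB O 1
    obtain ⟨hxV, -, -⟩ := h.e_comm hB O hx
    have hsx := (mem_normalizer_iff.1 hN x).1 hx
    obtain ⟨-, hsl, -⟩ := h.e_comm hB O hsx
    by_contra hne
    have h1 := (hσ x hxV i).1 (hsl _ hne)
    rw [h1] at hxi
    exact zero_ne_one hxi
  have ha2 : ∀ v ∈ V, (∀ l, l ≠ i → M.e v l = 0) → ∀ l, l ≠ i → M.e (s * v * s⁻¹) l = 0 := by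
    intro v hv hvl l hl
    have h1 : σ.symm l ≠ i := fun e => hl (by rw [← hσi, ← e, σ.apply_symm_apply])
    have h2 := (hσ v hv (σ.symm l)).2 (hvl _ h1)
    rwa [σ.apply_symm_apply] at h2
  refine ⟨hsP, fun v hv h0 => ?_, ha2, fun v hv h0 => ?_⟩
  · have h1 := (hσ v hv i).2 h0
    rwa [hσi] at h1
  · obtain ⟨τ, hτ⟩ := M.line s hs
    have hτi : τ i = i := by
      by_contra hne
      obtain ⟨w, hw, hwi, hwl⟩ := exists_single M i ![0, 1]
      have h1 := (hτ w hw i).1 (by rw [ha2 w hw hwl _ hne]; rfl)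
      rw [hwi] at h1
      simp at h1
    have h1 := (hτ v hv i).2 h0
    rwa [hτi] at h1

/-- conjugation of the `i`-th factor -/
theorem conj_act [CharP F 2] {i : Fin k} {s : G} (hs : Fx M i s) (hs' : Fx M i s⁻¹) {c : G} (hc : c ∈ P')
    {A : Matrix.SpecialLinearGroup (Fin 2) F} (hA : ActsSL M.e V D c (sg i A)) :
    ∃ A', ActsSL M.e V D (s * c * s⁻¹) (sg i A') ∧ ∀ x, ap A' (Pf M i s x) = Pf M i s (ap A x) := by
  obtain ⟨A', hA'⟩ := M.norm s hs.sP c hc (sg i A) hA.1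
  refine ⟨A' i, ⟨?_, ?_⟩, fun x => ?_⟩
  · have h1 : A' = sg i (A' i) := by
      refine eq_sg fun l hl => ap_inj fun x => ?_
      obtain ⟨v, hv, hvl, hvj⟩ := exists_single M l x
      have hw := h.memV hs'.sP hv
      have hwi : M.e (s⁻¹ * v * s⁻¹⁻¹) i = 0 := hs'.a1 v hv (hvj i (Ne.symm hl))
      have h2 : M.e (c * (s⁻¹ * v * s⁻¹⁻¹) * c⁻¹) = M.e (s⁻¹ * v * s⁻¹⁻¹) := by
        funext j
        rw [hA.1 _ hw j]
        by_cases hj : j = i
        · rw [hj, hwi, ap_zr]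
        · rw [sg_ne hj, ap_one]
      have h3 := (h.mem_D (h.memV hc hw) hw).2 h2
      have h4 := conj_mem h.DP' hs.sP h3
      have e : s * (c * (s⁻¹ * v * s⁻¹⁻¹) * c⁻¹ * (s⁻¹ * v * s⁻¹⁻¹)⁻¹) * s⁻¹ =
          (s * c * s⁻¹ * v * (s * c * s⁻¹)⁻¹) * v⁻¹ := by group
      rw [e, h.mem_D (h.memV (mul_mem (mul_mem hs.sP hc) (inv_mem hs.sP)) hv) hv] at h4
      have h5 := hA' v hv l
      rw [h4, hvl] at h5
      rw [ap_one]
      exact h5.symm
    rw [← h1]
    exact hA'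
  · intro d hd
    have hd' : s⁻¹ * d * s ∈ D := conj_mem' h.DP' hs.sP hd
    have h1 := comm_conj (g := s) (hA.2 _ hd')
    have e : s * (s⁻¹ * d * s) * s⁻¹ = d := by group
    rwa [e] at h1
  · have hw := wv_V M i x
    have h1 := hA' _ (h.memV hs.sP hw) i
    have e : s * c * s⁻¹ * (s * wv M i x * s⁻¹) * (s * c * s⁻¹)⁻¹ = s * (c * wv M i x * c⁻¹) * s⁻¹ := by group
    rw [e, h.Pf_spec hs (h.memV hc hw), hA.1 _ hw i, sg_self, wv_i] at h1
    exact h1.symm

omit h in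
theorem vec_add (x y : F) : ![x, y] = ![x, 0] + ![0, y] := by
  refine vec_eq ?_ ?_ <;> simp

/-- the action on the line -/
noncomputable def hH [CharP F 2] {i : Fin k} {s : G} (hs : Fx M i s) : F →+ F :=
  AddMonoidHom.mk' (fun x => Pf M i s ![x, 0] 0) fun x y => by
    have e : ![x + y, 0] = ![x, 0] + ![y, (0 : F)] := by
      refine vec_eq ?_ ?_ <;> simp
    rw [e, h.Pf_add hs, Pi.add_apply]

/-- the action modulo the line -/
noncomputable def gH [CharP F 2] {i : Fin k} {s : G} (hs : Fx M i s) : F →+ F :=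
  AddMonoidHom.mk' (fun x => Pf M i s ![0, x] 1) fun x y => by
    have e : ![0, x + y] = ![0, x] + ![(0 : F), y] := by
      refine vec_eq ?_ ?_ <;> simp
    rw [e, h.Pf_add hs, Pi.add_apply]

theorem hH_eq [CharP F 2] {i : Fin k} {s : G} (hs : Fx M i s) (x : F) : Pf M i s ![x, 0] = ![h.hH hs x, 0] :=
  vec_eq rfl (Pf_line hs _ rfl)

theorem gH_eq [CharP F 2] {i : Fin k} {s : G} (hs : Fx M i s) (x : Fin 2 → F) : Pf M i s x 1 = h.gH hs (x 1) := by
  have e : x = ![x 0, 0] + ![0, x 1] := by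
    refine vec_eq ?_ ?_ <;> simp
  rw [e, h.Pf_add hs, Pi.add_apply, Pf_line hs _ (by simp), zero_add]
  simp [gH]

theorem hH_inj [CharP F 2] {i : Fin k} {s : G} (hs : Fx M i s) (hs' : Fx M i s⁻¹) : Function.Injective (h.hH hs) := by
  rw [injective_iff_map_eq_zero]
  intro x hx
  have h1 := h.Pf_mul hs' hs ![x, 0]
  rw [inv_mul_cancel, Pf_one, h.hH_eq hs, hx] at h1
  have h2 := congrFun (h.hH_eq hs' 0) 0
  rw [← h1, map_zero] at h2
  simpa using h2

theorem gH_ne [CharP F 2] {i : Fin k} {s : G} (hs : Fx M i s) (hs' : Fx M i s⁻¹) : h.gH hs 1 ≠ 0 := by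
  intro h0
  have h1 := h.Pf_mul hs' hs ![0, 1]
  rw [inv_mul_cancel, Pf_one] at h1
  have h2 : Pf M i s ![0, 1] 1 = 0 := h0
  have h3 := Pf_line hs' _ h2
  rw [← h1] at h3
  simp at h3

/-- **the autotopism** -/
theorem autot [Finite F] [CharP F 2] {i : Fin k} {s : G} (hs : Fx M i s) (hs' : Fx M i s⁻¹) (b y : F) :
    h.hH hs (b * y) = (h.hH hs b * (h.gH hs 1)⁻¹) * h.gH hs y := by
  obtain ⟨c, hc, hcA⟩ := M.lift (sg i (up b))
  obtain ⟨A', -, hA'⟩ := h.conj_act hs hs' hc hcA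
  -- `A' = up f`
  have hbij : Function.Bijective (h.hH hs) := Finite.injective_iff_bijective.1 (h.hH_inj hs hs')
  obtain ⟨x1, hx1⟩ := hbij.2 1
  have k1 := hA' ![x1, 0]
  have e1 : ap (up b) ![x1, 0] = ![x1, 0] := by
    refine vec_eq ?_ ?_
    · rw [ap_up_0]; simp
    · rw [ap_up_1]
  rw [e1, h.hH_eq hs, hx1] at k1
  have a00 := congrFun k1 0
  have a10 := congrFun k1 1
  rw [ap_zero'] at a00
  rw [ap_one'] at a10
  simp only [Matrix.cons_val_zero, Matrix.cons_val_one, mul_one, mul_zero, add_zero] at a00 a10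
  have key : ∀ z, h.hH hs (b * z) = ent A' 0 1 * h.gH hs z := by
    intro z
    have k2 := congrFun (hA' ![0, z]) 0
    have e2 : ap (up b) ![0, z] = ![b * z, 0] + ![0, z] := by
      refine vec_eq ?_ ?_
      · rw [ap_up_0]; simp
      · rw [ap_up_1]; simp
    rw [e2, h.Pf_add hs, Pi.add_apply, h.hH_eq hs, ap_zero', a00, one_mul, h.gH_eq hs] at k2
    simp only [Matrix.cons_val_zero, Matrix.cons_val_one] at k2
    rw [add_comm] at k2
    exact (add_right_cancel k2).symm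
  have h1 := key 1
  rw [mul_one] at h1
  rw [key y, h1, mul_inv_cancel_right₀ (h.gH_ne hs hs')]

/-- the semilinear action on the line -/
theorem sem [Finite F] [CharP F 2] {i : Fin k} {s : G} (hs : Fx M i s) (hs' : Fx M i s⁻¹) :
    ∃ σ : RingAut F, ∀ x, h.hH hs x = h.hH hs 1 * σ x := by
  let f : F →+ F := AddMonoidHom.mk' (fun b => h.hH hs b * (h.gH hs 1)⁻¹) fun x y => by rw [map_add, add_mul]
  obtain ⟨-, -, -, σ, hσ, -, -⟩ := End.Auto.autotopism (h := h.hH hs) (f := f) (g := h.gH hs)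
    (Finite.injective_iff_bijective.1 (h.hH_inj hs hs')) (h.autot hs hs')
  exact ⟨σ, hσ⟩

omit h in
theorem Fx_mul {i : Fin k} (hV : P' ≤ normalizer (V : Set G)) {s t : G} (hs : Fx M i s) (ht : Fx M i t) :
    Fx M i (s * t) := by
  have e : ∀ v, s * t * v * (s * t)⁻¹ = s * (t * v * t⁻¹) * s⁻¹ := fun v => by group
  refine ⟨mul_mem hs.sP ht.sP, fun v hv h0 => ?_, fun v hv h0 => ?_, fun v hv h0 => ?_⟩
  · rw [e]; exact hs.a1 _ (conj_mem hV ht.sP hv) (ht.a1 v hv h0)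
  · rw [e]; exact hs.a2 _ (conj_mem hV ht.sP hv) (ht.a2 v hv h0)
  · rw [e]; exact hs.a3 _ (conj_mem hV ht.sP hv) (ht.a3 v hv h0)

omit h in
theorem Fx_up {i : Fin k} {b : G} (hb : b ∈ P') {β : F} (hbA : ActsSL M.e V D b (sg i (up β))) : Fx M i b := by
  refine ⟨hb, fun v hv h0 => ?_, fun v hv h0 l hl => ?_, fun v hv h0 => ?_⟩
  · rw [hbA.1 v hv i, h0, ap_zr]
  · rw [hbA.1 v hv l, sg_ne hl, ap_one, h0 l hl]
  · rw [hbA.1 v hv i, sg_self, ap_up_1, h0]

omit h in
theorem Pf_acts [CharP F 2] {i : Fin k} {b : G} {A : Matrix.SpecialLinearGroup (Fin 2) F}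
    (hbA : ActsSL M.e V D b (sg i A)) (x : Fin 2 → F) : Pf M i b x = ap A x := by
  rw [Pf, hbA.1 _ (wv_V M i x) i, sg_self, wv_i]

/-- **an element of 2-power order which is trivial on the line centralises `[V, B]`** -/
theorem cen_of_line [Finite F] [CharP F 2] {U B : Subgroup G} (hB : B ≤ S) (VU : V ≤ U) {i : Fin k} (O : One M U B i)
    {u : G} (hu : u ∈ S) (hN : u ∈ normalizer ((⁅V, B⁆ : Subgroup G) : Set G)) {j : ℕ} (hj : u ^ 2 ^ j = 1)
    (hline : ∀ x, Pf M i u ![x, 0] 0 = x) : ∀ x ∈ ⁅V, B⁆, u * x = x * u := by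
  have hfx : ∀ n : ℕ, Fx M i (u ^ n) := fun n => h.fx_of hB O (pow_mem hu n) (pow_mem hN n)
  have hs : Fx M i u := h.fx_of hB O hu hN
  have hs' : Fx M i u⁻¹ := h.fx_of hB O (inv_mem hu) (inv_mem hN)
  -- `gH = id`
  let f : F →+ F := AddMonoidHom.mk' (fun b => h.hH hs b * (h.gH hs 1)⁻¹) fun x y => by rw [map_add, add_mul]
  obtain ⟨-, -, hg⟩ := End.Auto.of_id (h := h.hH hs) (f := f) (g := h.gH hs) (h.autot hs hs') hline
  have hpow : ∀ n : ℕ, ∀ x : F, Pf M i (u ^ n) ![0, x] 1 = (h.gH hs)^[n] x := by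
    intro n
    induction n with
    | zero => intro x; rw [pow_zero, Pf_one]; rfl
    | succ n ih =>
      intro x
      rw [pow_succ', h.Pf_mul hs (hfx n), h.gH_eq hs, ih, Function.iterate_succ_apply']
  have hg1 : ∀ x, h.gH hs x = x := fun x =>
    End.Auto.eq_id_of_iterate (h.gH hs 1) (f := h.gH hs) hg (n := j) (fun y => by
      rw [← hpow, hj, Pf_one]
      simp) x
  -- the shape of `u`
  obtain ⟨c, hc, hcA⟩ := M.lift (sg i (lo 1))
  obtain ⟨A', -, hA'⟩ := h.conj_act hs hs' hc hcA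
  have hu1 : ∀ x : Fin 2 → F, Pf M i u x 1 = x 1 := fun x => by rw [h.gH_eq hs, hg1]
  have hu0 : ∀ x : Fin 2 → F, Pf M i u x 0 = x 0 + (ent A' 0 0 + 1) * x 1 := by
    have k0 : ∀ x : Fin 2 → F, Pf M i u x 0 = x 0 + Pf M i u ![0, x 1] 0 := fun x => by
      have e : x = ![x 0, 0] + ![0, x 1] := by
        refine vec_eq ?_ ?_ <;> simp
      conv_lhs => rw [e, h.Pf_add hs, Pi.add_apply, hline]
    have k1 : ∀ y : F, Pf M i u ![0, y] 0 = (ent A' 0 0 + 1) * y := by
      intro y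
      have k2 := congrFun (hA' ![y, 0]) 0
      have e1 : Pf M i u ![y, 0] = ![y, 0] := vec_eq (hline y) (Pf_line hs _ rfl)
      rw [e1, ap_zero', k0, ap_lo_0, ap_lo_1] at k2
      simp only [Matrix.cons_val_zero, Matrix.cons_val_one, mul_zero, add_zero, one_mul] at k2
      have h2 : Pf M i u ![0, y] 0 = ent A' 0 0 * y + y := by
        rw [k2, add_comm y, add_assoc, CharTwo.add_self_eq_zero, add_zero]
      rw [h2]
      ring
    intro x
    rw [k0, k1]
  obtain ⟨b, hb, hbA⟩ := O.all (ent A' 0 0 + 1)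
  have hbP := h.SP' (hB hb)
  have hbA' := h.acts_inv hbP hbA
  have e1 : (sg i (up (ent A' 0 0 + 1)))⁻¹ = sg i (up (-(ent A' 0 0 + 1))) := by
    rw [← up_inv]
    refine inv_eq_of_mul_eq_one_right ?_
    rw [← sg_mul, mul_inv_cancel, sg_one]
  rw [e1] at hbA'
  have fb : Fx M i b⁻¹ := Fx_up (inv_mem hbP) hbA'
  have fb' : Fx M i b := Fx_up hbP hbA
  have fg : Fx M i (b⁻¹ * u) := Fx_mul h.VP' fb hs
  have fg' : Fx M i (b⁻¹ * u)⁻¹ := by
    have e : (b⁻¹ * u)⁻¹ = u⁻¹ * b := by group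
    rw [e]
    exact Fx_mul h.VP' hs' fb'
  have hPg : ∀ x, Pf M i (b⁻¹ * u) x = x := fun x => by
    rw [h.Pf_mul fb hs, Pf_acts hbA']
    refine vec_eq ?_ ?_
    · rw [ap_up_0, hu0, hu1]; ring
    · rw [ap_up_1, hu1]
  -- `g := b⁻¹ u` centralises `[V, B]`
  have hgc : ∀ x ∈ ⁅V, B⁆, (b⁻¹ * u) * x = x * (b⁻¹ * u) := by
    have h1 : ⁅V, B⁆ ≤ centralizer ({b⁻¹ * u} : Set G) := comm_le fun v hv a ha => by
      rw [mem_centralizer_singleton_iff]
      obtain ⟨w, hw, hwl, -, e⟩ := one_comm_elem O VU hv ha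
      have e2 : v * a * v⁻¹ * a⁻¹ = (a * v * a⁻¹ * v⁻¹)⁻¹ := by group
      rw [e2, e]
      have haP := h.SP' (hB ha)
      obtain ⟨β, hβ⟩ := O.act a ha
      obtain ⟨A1, hA1, hA1'⟩ := h.conj_act fg fg' haP hβ
      have h3 : A1 = up β := ap_inj fun x => by
        have h4 := hA1' x
        rwa [hPg, hPg] at h4
      rw [h3] at hA1
      have hgP : b⁻¹ * u ∈ P' := fg.sP
      set g := b⁻¹ * u
      have hgw : g * w * g⁻¹ * w⁻¹ ∈ D := by
        rw [h.mem_D (h.memV hgP hw) hw]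
        funext l
        by_cases hl : l = i
        · rw [hl, h.Pf_spec fg hw, hPg]
        · rw [hwl l hl, fg.a2 w hw hwl l hl]
      have h5 := hβ.2 _ hgw
      have h6 := h.same (mul_mem (mul_mem hgP haP) (inv_mem hgP)) haP hA1 hβ (h.memV hgP hw)
      have h7 : g * (a * w * a⁻¹) * g⁻¹ = (g * w * g⁻¹ * w⁻¹) * (a * w * a⁻¹) := by
        calc g * (a * w * a⁻¹) * g⁻¹ = (g * a * g⁻¹) * (g * w * g⁻¹) * (g * a * g⁻¹)⁻¹ := by group
          _ = a * (g * w * g⁻¹) * a⁻¹ := h6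
          _ = (a * (g * w * g⁻¹ * w⁻¹)) * w * a⁻¹ := by group
          _ = (g * w * g⁻¹ * w⁻¹ * a) * w * a⁻¹ := by rw [h5]
          _ = _ := by group
      have h8 : g * (a * w * a⁻¹ * w⁻¹) * g⁻¹ = a * w * a⁻¹ * w⁻¹ := by
        calc g * (a * w * a⁻¹ * w⁻¹) * g⁻¹ = (g * (a * w * a⁻¹) * g⁻¹) * (g * w * g⁻¹)⁻¹ := by group
          _ = (g * w * g⁻¹ * w⁻¹) * (a * w * a⁻¹) * (g * w * g⁻¹)⁻¹ := by rw [h7]
          _ = (a * w * a⁻¹) * (g * w * g⁻¹ * w⁻¹) * (g * w * g⁻¹)⁻¹ := by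
            rw [h.cm (h.DV hgw) (h.memV haP hw)]
          _ = (a * w * a⁻¹) * ((g * w * g⁻¹) * w⁻¹ * (g * w * g⁻¹)⁻¹) := by group
          _ = (a * w * a⁻¹) * (w⁻¹ * (g * w * g⁻¹) * (g * w * g⁻¹)⁻¹) := by
            rw [h.cm (h.memV hgP hw) (inv_mem hw)]
          _ = a * w * a⁻¹ * w⁻¹ := by group
      exact ((show Commute g (a * w * a⁻¹ * w⁻¹) from mul_inv_eq_iff_eq_mul.1 h8).inv_right).symm
    exact fun x hx => (mem_centralizer_singleton_iff.1 (h1 hx)).symm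
  intro x hx
  have hbx : Commute b x := by
    have e : sg i (up (ent A' 0 0 + 1)) = fun l => up ((Function.update (0 : Fin k → F) i (ent A' 0 0 + 1)) l) := by
      have := sg_up i (Function.update (0 : Fin k → F) i (ent A' 0 0 + 1)) fun l hl => by
        rw [Function.update_of_ne hl]; rfl
      rw [this, Function.update_self]
    rw [e] at hbA
    exact h.up_cen_comm hB O VU hbP hbA hx
  have h9 := hbx.mul_left (show Commute (b⁻¹ * u) x from hgc x hx)
  rw [mul_inv_cancel_left] at h9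
  exact h9

/-- `s` acts on the line as `x ↦ c σ(x)`. -/
def Rel (M : NatKM F S P' V D k) (i : Fin k) (s : G) (c : F) (σ : RingAut F) : Prop :=
  ∀ x, Pf M i s ![x, 0] = ![c * σ x, 0]

omit h in
theorem rel_one {i : Fin k} : Rel M i 1 1 1 := fun x => by
  rw [Pf_one, one_mul]
  rfl

theorem rel_mul [CharP F 2] {i : Fin k} {s t : G} (hs : Fx M i s) (ht : Fx M i t) {c d : F} {σ τ : RingAut F}
    (h1 : Rel M i s c σ) (h2 : Rel M i t d τ) : Rel M i (s * t) (c * σ d) (σ * τ) := fun x => by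
  rw [h.Pf_mul hs ht, h2 x, h1, map_mul, RingAut.mul_apply, mul_assoc]

omit h in
theorem rel_uniq {i : Fin k} {s : G} {c d : F} {σ τ : RingAut F} (hc : c ≠ 0) (h1 : Rel M i s c σ)
    (h2 : Rel M i s d τ) : c = d ∧ σ = τ := by
  have h3 : ∀ x, c * σ x = d * τ x := fun x => by
    have h4 := congrFun ((h1 x).symm.trans (h2 x)) 0
    simpa using h4
  have h4 : c = d := by
    have h5 := h3 1
    rwa [map_one, map_one, mul_one, mul_one] at h5
  refine ⟨h4, RingEquiv.ext fun x => ?_⟩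
  have h5 := h3 x
  rw [← h4] at h5
  exact mul_left_cancel₀ hc h5

/-- **the chain property: `N_S([V, B])` acts on `[V, B]` as a cyclic group** -/
theorem chain [Finite F] [CharP F 2] (hS2 : IsPGroup 2 S) {U B : Subgroup G} (hB : B ≤ S) (VU : V ≤ U) {i : Fin k}
    (O : One M U B i) {s t : G} (hs : s ∈ S) (hsN : s ∈ normalizer ((⁅V, B⁆ : Subgroup G) : Set G)) (ht : t ∈ S)
    (htN : t ∈ normalizer ((⁅V, B⁆ : Subgroup G) : Set G)) :
    ∃ n : ℕ, (∀ x ∈ ⁅V, B⁆, s * t ^ n * x = x * (s * t ^ n)) ∨ ∀ x ∈ ⁅V, B⁆, t * s ^ n * x = x * (t * s ^ n) := by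
  have hp2 : ∀ g ∈ S, ∃ j : ℕ, g ^ 2 ^ j = 1 := fun g hg => by
    obtain ⟨j, hj⟩ := hS2 ⟨g, hg⟩
    exact ⟨j, congrArg Subtype.val hj⟩
  have hfx : ∀ g, g ∈ S → g ∈ normalizer ((⁅V, B⁆ : Subgroup G) : Set G) → Fx M i g := fun g h1 h2 =>
    h.fx_of hB O h1 h2
  have hrel : ∀ g, g ∈ S → g ∈ normalizer ((⁅V, B⁆ : Subgroup G) : Set G) →
      ∃ c σ, c ≠ 0 ∧ Rel M i g c σ := fun g h1 h2 => by
    have f1 := hfx g h1 h2
    have f2 := hfx g⁻¹ (inv_mem h1) (inv_mem h2)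
    obtain ⟨σ, hσ⟩ := h.sem f1 f2
    refine ⟨h.hH f1 1, σ, fun e => ?_, fun x => ?_⟩
    · have := h.hH_inj f1 f2 (e.trans (map_zero _).symm)
      exact one_ne_zero this
    · rw [h.hH_eq f1, hσ]
  have hpow : ∀ g, g ∈ S → g ∈ normalizer ((⁅V, B⁆ : Subgroup G) : Set G) → ∀ c σ, Rel M i g c σ →
      ∀ n : ℕ, ∃ d, Rel M i (g ^ n) d (σ ^ n) := fun g h1 h2 c σ hg n => by
    induction n with
    | zero => exact ⟨1, by rw [pow_zero, pow_zero]; exact rel_one⟩
    | succ n ih =>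
      obtain ⟨d, hd⟩ := ih
      refine ⟨d * (σ ^ n) c, ?_⟩
      rw [pow_succ, pow_succ]
      exact h.rel_mul (hfx _ (pow_mem h1 n) (pow_mem h2 n)) (hfx g h1 h2) hd hg
  -- the automorphism has 2-power order
  have hord : ∀ g, g ∈ S → g ∈ normalizer ((⁅V, B⁆ : Subgroup G) : Set G) → ∀ c σ, Rel M i g c σ →
      ∃ j : ℕ, σ ^ 2 ^ j = 1 := fun g h1 h2 c σ hg => by
    obtain ⟨j, hj⟩ := hp2 g h1
    obtain ⟨d, hd⟩ := hpow g h1 h2 c σ hg (2 ^ j)
    rw [hj] at hd
    exact ⟨j, (rel_uniq one_ne_zero rel_one hd).2.symm⟩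
  -- the main step
  have main : ∀ s, s ∈ S → s ∈ normalizer ((⁅V, B⁆ : Subgroup G) : Set G) → ∀ t, t ∈ S →
      t ∈ normalizer ((⁅V, B⁆ : Subgroup G) : Set G) → ∀ c σ d τ, Rel M i s c σ → Rel M i t d τ →
      σ ∈ zpowers τ → ∃ n : ℕ, ∀ x ∈ ⁅V, B⁆, s * t ^ n * x = x * (s * t ^ n) := by
    intro s hs hsN t ht htN c σ d τ h1 h2 h3
    obtain ⟨j, hj⟩ := hord t ht htN d τ h2
    have hfin : IsOfFinOrder τ := isOfFinOrder_iff_pow_eq_one.2 ⟨2 ^ j, Nat.pos_of_ne_zero (by positivity), hj⟩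
    have h4 : σ⁻¹ ∈ zpowers τ := inv_mem h3
    obtain ⟨n, hn⟩ := (hfin.mem_powers_iff_mem_zpowers.2 h4)
    refine ⟨n, ?_⟩
    have hn' : τ ^ n = σ⁻¹ := hn
    obtain ⟨d', hd'⟩ := hpow t ht htN d τ h2 n
    have h5 := h.rel_mul (hfx s hs hsN) (hfx _ (pow_mem ht n) (pow_mem htN n)) h1 hd'
    rw [hn', mul_inv_cancel] at h5
    have huS := mul_mem hs (pow_mem ht n)
    have huN := mul_mem hsN (pow_mem htN n)
    obtain ⟨j', hj'⟩ := hp2 _ huS
    refine h.cen_of_line hB VU O huS huN hj' fun x => ?_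
    set u := s * t ^ n
    set c' := c * σ d'
    -- `c' = 1`
    have h6 : ∀ m : ℕ, Rel M i (u ^ m) (c' ^ m) 1 := fun m => by
      induction m with
      | zero => rw [pow_zero, pow_zero]; exact rel_one
      | succ m ih =>
        rw [pow_succ, pow_succ]
        have h7 := h.rel_mul (hfx _ (pow_mem huS m) (pow_mem huN m)) (hfx u huS huN) ih h5
        rw [mul_one] at h7
        exact h7
    have h7 := h6 (2 ^ j')
    rw [hj'] at h7
    have h8 := (rel_uniq one_ne_zero rel_one h7).1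
    have h9 := End.Auto.eq_one_of_pow h8.symm
    rw [h5 x, h9, one_mul]
    rfl
  obtain ⟨c, σ, -, h1⟩ := hrel s hs hsN
  obtain ⟨d, τ, -, h2⟩ := hrel t ht htN
  rcases End.AutTwo.mem_or_mem' (hord s hs hsN c σ h1) (hord t ht htN d τ h2) with h3 | h3
  · obtain ⟨n, hn⟩ := main s hs hsN t ht htN c σ d τ h1 h2 h3
    exact ⟨n, Or.inl hn⟩
  · obtain ⟨n, hn⟩ := main t ht htN s hs hsN d τ c σ h2 h1 h3
    exact ⟨n, Or.inr hn⟩

end Nb

end Cfsg.Agent.Omega.NO3S.ThmB

end
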