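import Cfsg.Agent.Mrg.Omega.NO3S.ThmB.SymM
import Cfsg.Agent.Mrg.Omega.NO3S.ThmB.Best
import Cfsg.Agent.Mrg.Omega.NO3S.Level.Lim
import Cfsg.Agent.Mrg.Omega.NO3S.Level.Fam
import Cfsg.Agent.Mrg.Omega.NO3S.OneLine.LevOf
import Cfsg.Agent.Mrg.Omega.All.HOneKer

-- merged: Cfsg.Agent.Mrg.Omega.NO3S.ThmB.SymFix
section

/-!
# THEOREM B: even-subset modules for `P'`, (B1)

* `Sb.hk` : an element of `V` which is centralised by `KK` is in `D`;
* `Sb.fix` : **(B1)** for even-subset modules.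
-/

set_option autoImplicit false

namespace Cfsg.Agent.Omega.NO3S.ThmB

open Subgroup Cfsg Cfsg.Agent.ZN Cfsg.Agent.ZN.ChoiceBase
open Cfsg.Agent.Omega.FFThm

universe u

variable {G : Type u} [Group G] {S P' V D : Subgroup G} {k m : ℕ}

/-- a permutation which maps `x, y` to `a, b` -/
theorem exists_perm {n : ℕ} {x y a b : Fin n} (hxy : x ≠ y) (hab : a ≠ b) :
    ∃ π : Equiv.Perm (Fin n), π x = a ∧ π y = b := by
  have h1 : Equiv.swap x a y ≠ a := fun e => by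
    have h2 : Equiv.swap x a y = Equiv.swap x a x := by rw [e, Equiv.swap_apply_left]
    exact hxy ((Equiv.swap x a).injective h2).symm
  refine ⟨Equiv.swap (Equiv.swap x a y) b * Equiv.swap x a, ?_, ?_⟩
  · rw [Equiv.Perm.mul_apply, Equiv.swap_apply_left, Equiv.swap_apply_of_ne_of_ne (Ne.symm h1) hab]
  · rw [Equiv.Perm.mul_apply, Equiv.swap_apply_left]

namespace Sb

variable {M : SymKM S P' V D k m} (h : Sb M)

include h

/-- the conjugate of a transposition by an element of `S` -/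
theorem ac_conj {s t : G} (hs : s ∈ S) (ht : t ∈ P') {σ : Equiv.Perm (Fin k)}
    {τ : Fin k → Equiv.Perm (Fin (2 ^ m + 1))} (hsA : ActsSym M.e V s σ τ) {i : Fin k} {x y : Fin (2 ^ m + 1)}
    (htA : Ac M t (pr i x y)) : Ac M (s * t * s⁻¹) (pr (σ i) (τ i x) (τ i y)) := by
  have hsP := h.SP' hs
  refine ⟨fun v hv l' z' => ?_, fun d hd => ?_⟩
  · obtain ⟨l, rfl⟩ := σ.surjective l'
    obtain ⟨z, rfl⟩ := (τ l).surjective z'
    have hw := h.memV (inv_mem hsP) hv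
    have e1 : s * t * s⁻¹ * v * (s * t * s⁻¹)⁻¹ = s * (t * (s⁻¹ * v * s⁻¹⁻¹) * t⁻¹) * s⁻¹ := by group
    have e2 : s * (s⁻¹ * v * s⁻¹⁻¹) * s⁻¹ = v := by group
    have h1 := hsA _ (h.memV ht hw) l (pr i x y l z)
    have h2 := htA.1 _ hw l z
    have h3 := hsA _ hw l z
    rw [e2] at h3
    have h4 : pr (σ i) (τ i x) (τ i y) (σ l) (τ l z) = τ l (pr i x y l z) := by
      by_cases hl : l = i
      · subst hl
        rw [pr, pr, sg_self, sg_self, Equiv.swap_apply_apply, Equiv.Perm.mul_apply, Equiv.Perm.mul_apply,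
          ← Equiv.Perm.mul_apply (τ l)⁻¹, inv_mul_cancel, Equiv.Perm.one_apply]
      · rw [pr, pr, sg_ne (fun e => hl (σ.injective e)), sg_ne hl]
        rfl
    rw [e1, Equiv.Perm.one_apply, h4, h3]
    exact h1.trans h2
  · have hd' : s⁻¹ * d * s ∈ D := conj_mem' h.DP' hsP hd
    have h1 := comm_conj (g := s) (htA.2 _ hd')
    have e : s * (s⁻¹ * d * s) * s⁻¹ = d := by group
    rwa [e] at h1

/-- the conjugate of a transposition by a family -/
theorem ac_conj' {g t : G} (hg : g ∈ P') (ht : t ∈ P') {i : Fin k} {π : Equiv.Perm (Fin (2 ^ m + 1))}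
    (hgA : Ac M g (sg i π)) {x y : Fin (2 ^ m + 1)}
    (htA : Ac M t (pr i x y)) : Ac M (g * t * g⁻¹) (pr i (π x) (π y)) := by
  have h1 := h.ac_mul (inv_mem hg) (h.ac_mul ht hgA htA) (h.ac_inv hg hgA)
  have e : sg i π * pr i x y * (sg i π)⁻¹ = pr i (π x) (π y) := by
    rw [mul_inv_eq_iff_eq_mul, pr, pr, ← sg_mul, ← sg_mul, Equiv.swap_apply_apply, inv_mul_cancel_right]
  rwa [e] at h1

section fam

variable [Finite G] {P U L : Subgroup G} {AA : Set (Subgroup G)} (X : BSit S P P' U V L AA)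

include X

theorem exists_idx (i : Fin k) : ∃ B, Fr V (DM U AA) B ∧ ∃ t ∈ B, ∃ x y, x ≠ y ∧ Ac M t (pr i x y) := by
  obtain ⟨B0, hB0⟩ := X.ex
  obtain ⟨i0, x0, y0, t0, n0, O⟩ := h.one X hB0
  obtain ⟨s, hs, σ, τ, hsA, hσ⟩ := M.trans i0 i
  refine ⟨cj s B0, (h.fam X).Fr_conj_S hs hB0, s * t0 * s⁻¹, mem_cj_of O.tA, τ i0 x0, τ i0 y0, fun e => ?_, ?_⟩
  · exact O.xy ((τ i0).injective e)
  · rw [← hσ]
    exact h.ac_conj hs (h.SP' (O.AS O.tA)) hsA O.tt

/-- **an element of `V` which is centralised by `KK` is in `D`** -/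
theorem hk {v : G} (hv : v ∈ V) (hc : ∀ g ∈ KK P' V (DM U AA), g * v = v * g) : M.e v = 0 := by
  funext i
  obtain ⟨B, hB, t, ht, x, y, hxy, htA⟩ := h.exists_idx X i
  have htP : t ∈ P' := h.SP' (X.le _ hB.1.1 ht)
  -- transpositions in `K1`
  have hK1 : ∀ a b, a ≠ b → ∃ q ∈ K1 P' V (DM U AA), q ∈ P' ∧ Ac M q (pr i a b) := by
    intro a b hab
    obtain ⟨π, hπx, hπy⟩ := exists_perm hxy hab
    obtain ⟨g, hg, hgA⟩ := M.lift (sg i π)
    have h1 := h.ac_conj' hg htP hgA htA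
    rw [hπx, hπy] at h1
    exact ⟨g * t * g⁻¹, Nb.mem_K1 hB hg ht, mul_mem (mul_mem hg htP) (inv_mem hg), h1⟩
  -- transpositions in `KK`
  have hKK : ∀ b, b ≠ x → ∃ q ∈ KK P' V (DM U AA), q ∈ P' ∧ Ac M q (pr i x b) := by
    intro b hb
    by_cases hby : b = y
    · subst hby
      have h1 := Nb.mem_KK (P' := P') hB (one_mem _) ht
      rw [one_mul, inv_one, mul_one] at h1
      exact ⟨t, h1, htP, htA⟩
    · obtain ⟨q, hq, hqP, hqA⟩ := hK1 y b (Ne.symm hby)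
      have h1 := h.ac_conj' hqP htP (π := Equiv.swap y b) hqA htA
      rw [Equiv.swap_apply_left, Equiv.swap_apply_of_ne_of_ne hxy (Ne.symm hb)] at h1
      exact ⟨q * t * q⁻¹, Nb.mem_KK hB hq ht, mul_mem (mul_mem hqP htP) (inv_mem hqP), h1⟩
  have hcon : ∀ b, M.e v i b = M.e v i x := by
    intro b
    by_cases hb : b = x
    · rw [hb]
    · obtain ⟨q, hq, -, hqA⟩ := hKK b hb
      have h1 := hqA.1 v hv i x
      have h2 : q * v * q⁻¹ = v := by rw [hc q hq]; group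
      rw [h2, Equiv.Perm.one_apply, pr, sg_self, Equiv.swap_apply_left] at h1
      exact h1
  have h1 := M.even v hv i
  have h2 : ∑ z, M.e v i z = M.e v i x := by
    rw [Finset.sum_congr rfl fun z _ => hcon z, Finset.sum_const, Finset.card_univ, Fintype.card_fin, nsmul_eq_mul]
    have h3 : ((2 ^ m + 1 : ℕ) : ZMod 2) = 1 := by
      have h5 : m ≠ 0 := by have := h.m2; omega
      push_cast
      have h6 : (2 : ZMod 2) = 0 := by decide
      rw [h6, zero_pow h5, zero_add]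
    rw [h3, one_mul]
  rw [h2] at h1
  funext z
  rw [hcon z, h1]
  rfl

/-- **(B1), even-subset modules** -/
theorem fix : ∃ z ∈ U, z ≠ 1 ∧ ∀ g ∈ P, g * z = z * g := by
  classical
  let _ : Fintype G := Fintype.ofFinite G
  refine (h.fam X).exists_fix M.e M.mul (fun v hv hc => h.hk X hv hc) fun h0 => ?_
  obtain ⟨B, hB⟩ := X.ex
  obtain ⟨i, x, y, t, n0, O⟩ := h.one X hB
  obtain ⟨hwV, hwe⟩ := h.e_nxy O
  have h3 := congrFun (congrFun h0 i) x
  have hw1 : t * n0 * t⁻¹ * n0⁻¹ ≠ 1 := fun e => by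
    have h4 := congrFun (congrFun hwe i) x
    rw [e, e_one, Pi.add_apply, Pi.add_apply, dl_self, dl_ne i O.xy] at h4
    exact zero_ne_one (h4.trans (add_zero _))
  have hwB : t * n0 * t⁻¹ * n0⁻¹ ∈ ⁅V, B⁆ := by
    have h4 := mem_comm O.nV O.tA
    have e : t * n0 * t⁻¹ * n0⁻¹ = (n0 * t * n0⁻¹ * t⁻¹)⁻¹ := by group
    rw [e]
    exact inv_mem h4
  rw [Finset.sum_apply, Finset.sum_apply, Finset.sum_eq_single (t * n0 * t⁻¹ * n0⁻¹)] at h3
  · rw [hwe, Pi.add_apply, Pi.add_apply, dl_self, dl_ne i O.xy] at h3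
    exact one_ne_zero ((add_zero _).symm.trans h3)
  · intro w hw hww
    obtain ⟨hw1', B', hB', hwB'⟩ := (Finset.mem_filter.1 hw).2
    obtain ⟨j, x', y', t', n0', O'⟩ := h.one X hB'
    rcases h.comm_one O' X.VU hwB' with h4 | h4
    · exact absurd h4 hw1'
    · rw [h4, (h.e_nxy O').2, Pi.add_apply, Pi.add_apply]
      by_cases hj : j = i
      · subst hj
        by_cases hx1 : x = x'
        · -- the same transposition
          exfalso
          subst hx1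
          have h5 := h.disj (O.AS O.tA) (O'.AS O'.tA) (Ne.symm O.xy) (Ne.symm O'.xy) O.tt.1 O'.tt.1
          subst h5
          -- `n0⁻¹ n0'` is centralised by `B`
          have h6 := (O.cen _ (mul_mem (inv_mem O.nV) O'.nV)).2 (by
            rw [M.mul _ (inv_mem O.nV) _ O'.nV, h.e_inv O.nV, O.en, O'.en, add_self2]
            rfl) t O.tA
          have h7 := h.same (h.SP' (O.AS O.tA)) (h.SP' (O'.AS O'.tA)) O.tt O'.tt O'.nV
          refine hww ?_
          rw [h4, ← h7]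
          have hm : n0⁻¹ * n0' ∈ V := mul_mem (inv_mem O.nV) O'.nV
          calc t * n0' * t⁻¹ * n0'⁻¹ = t * n0 * t⁻¹ * (t * (n0⁻¹ * n0')) * t⁻¹ * n0'⁻¹ := by group
            _ = t * n0 * t⁻¹ * ((n0⁻¹ * n0') * t) * t⁻¹ * n0'⁻¹ := by rw [h6]
            _ = t * n0 * t⁻¹ * n0⁻¹ := by group
        · by_cases hx2 : x = y'
          · exfalso
            subst hx2
            have h8 : ActsSym M.e V t' 1 (pr j x x') := by
              have := O'.tt.1
              rwa [pr, Equiv.swap_comm] at this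
            have h5 := h.disj (O.AS O.tA) (O'.AS O'.tA) (Ne.symm O.xy) O'.xy O.tt.1 h8
            subst h5
            have h6 := (O.cen _ (mul_mem (inv_mem O.nV) (h.memV (h.SP' (O'.AS O'.tA)) O'.nV))).2 (by
              rw [M.mul _ (inv_mem O.nV) _ (h.memV (h.SP' (O'.AS O'.tA)) O'.nV), h.e_inv O.nV, O.en,
                e_pair h8 O'.nV O'.en, pr, sg_self, Equiv.swap_apply_right,
                Equiv.swap_apply_of_ne_of_ne (Ne.symm O.x0) (Ne.symm O.y0), add_self2]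
              rfl) t O.tA
            have h9 : Ac M t' (pr j x y) := ⟨h8, O'.tt.2⟩
            have h7 := h.same (h.SP' (O.AS O.tA)) (h.SP' (O'.AS O'.tA)) O.tt h9
              (h.memV (h.SP' (O'.AS O'.tA)) O'.nV)
            -- `t'² = 1` on `V`
            have h10 := h.t_nxy O'
            have h11 : t' * (t' * n0' * t'⁻¹) * t'⁻¹ = n0' := by
              have h12 := h.ac_mul (h.SP' (O'.AS O'.tA)) O'.tt O'.tt
              have e : pr j y x * pr j y x = 1 := by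
                rw [pr, ← sg_mul, Equiv.swap_mul_self, sg_one]
              rw [e] at h12
              have h13 := h.comm_of_one (mul_mem (h.SP' (O'.AS O'.tA)) (h.SP' (O'.AS O'.tA))) h12 O'.nV
              calc t' * (t' * n0' * t'⁻¹) * t'⁻¹ = (t' * t' * n0') * t'⁻¹ * t'⁻¹ := by group
                _ = (n0' * (t' * t')) * t'⁻¹ * t'⁻¹ := by rw [h13]
                _ = n0' := by group
            rw [h11] at h7
            refine hww ?_
            rw [h4]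
            set w' := t' * n0' * t'⁻¹ with hw'
            have hw'V : w' ∈ V := h.memV (h.SP' (O'.AS O'.tA)) O'.nV
            calc w' * n0'⁻¹ = n0'⁻¹ * w' := h.cm hw'V (inv_mem O'.nV)
              _ = n0' * w'⁻¹ := by rw [h.inv_eq O'.nV, h.inv_eq hw'V]
              _ = (t * w' * t⁻¹) * w'⁻¹ := by rw [h7]
              _ = t * n0 * t⁻¹ * (t * (n0⁻¹ * w')) * t⁻¹ * w'⁻¹ := by group
              _ = t * n0 * t⁻¹ * ((n0⁻¹ * w') * t) * t⁻¹ * w'⁻¹ := by rw [h6]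
              _ = t * n0 * t⁻¹ * n0⁻¹ := by group
          · rw [dl_ne j hx1, dl_ne j hx2, add_zero]
      · rw [dl_ne' (fun e => hj e.symm), dl_ne' (fun e => hj e.symm)]
        exact add_zero _
  · intro hn
    exact absurd (Finset.mem_filter.2 ⟨Finset.mem_univ _, hw1, B, hB, hwB⟩) hn

end fam

end Sb

end Cfsg.Agent.Omega.NO3S.ThmB

end

-- merged: Cfsg.Agent.Mrg.Omega.NO3S.ThmB.Inst
section

/-!
# THEOREM B: the instances (helper134; for helper555, helper781)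

* `nb`, `sb` : the structures `Nb`, `Sb` for `V_{P'} = ⟨Z^{P'}⟩`, `P' ∈ P*(S)`;
* `bsit` : the setting `BSit` for `U = ⟨Z^L⟩`, `L = ⟨P, P'⟩` local, and a family `FF` of best offenders on `U` with
  `⟨FF⟩ ≤ O₂(P)`, `⟨FF⟩ ≰ O₂(P')`; `bsit_AA`, `bsit_BO` : `FF = A(S)` and `FF = BO S K`, `K` a level;
* `no_two`, `no_sym` : **(B1)**, `P'` is not of an `F₂`-type;
* `four_of` : by the FF theorem `P'` is of type `SL₂(F)^k`, `|F| ≥ 4`; `four_AA`, `four_BO`, `four_lev` for the two families.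
-/

set_option autoImplicit false
set_option linter.unusedSectionVars false

namespace Cfsg.Agent.Omega.NO3S.ThmB.Inst

open Subgroup Cfsg Cfsg.Agent.ZN Cfsg.Agent.ZN.ChoiceBase Cfsg.Agent.Omega.MinPar
open Cfsg.Agent.Omega.NO3S.Level (Lev BO lev lev_isLev bfam_AA bfam_BO conj_le_of_le_o2 conj_le_of_cent
  zl_le_zc_of_norm nxt)
open Cfsg.Agent.Omega.FFThm (NatKM SymKM OffM ElemM NoOverM StmtM ConclM)
open Cfsg.Agent.Omega.FrameFF (cv)
open Cfsg.Agent.Omega.All.HOne (comm_of_both zl_sq' zl_comm' conjZ conjD)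

universe u

variable {G : Type u} [Group G] [Finite G] {S : Sylow 2 G} {P P' : Subgroup G}

/-! ### The blocks -/

section blocks

variable (hG : IsCharacteristicTwoType G) (hP' : IsParS (S : Subgroup G) P')

include hG hP'

theorem zl_el : IsElementaryAbelian 2 (zl (S : Subgroup G) P') :=
  PLocal.ThompsonJ.isElementaryAbelian_iff.2 ⟨fun _ hv _ hw => zl_comm' hG S hP' hv hw, fun v hv => by
    rw [pow_two]; exact zl_sq' hG S hP' hv⟩

omit [Finite G] hG hP' in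
theorem le_normalizer_cv : P' ≤ normalizer (cv (S : Subgroup G) P' : Set G) := fun g hg =>
  mem_normalizer_iff.2 fun v => ⟨fun hv => conjD hg hv, fun hv => by
    have h1 := conjD (inv_mem hg) hv
    have e : g⁻¹ * (g * v * g⁻¹) * g⁻¹⁻¹ = v := by group
    rwa [e] at h1⟩

/-- `Nb` for `V_{P'}` -/
theorem nb {F : Type} [Field F] {k : ℕ}
    (M : NatKM F (S : Subgroup G) P' (zl (S : Subgroup G) P') (cv (S : Subgroup G) P') k) : Nb M where
  SP' := hP'.le
  V2 := zl_el hG hP'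
  VP' := le_normalizer_zl _ _
  DV := inf_le_left
  DP' := le_normalizer_cv
  triv g hg h1 h2 v hv := by
    refine comm_of_both hG S hP' ⟨hg, fun w hw => ?_⟩ h2 v hv
    have hw' : g * w * g⁻¹ ∈ zl (S : Subgroup G) P' := conjZ hg hw
    rw [← M.ker _ (mul_mem hw' (inv_mem hw)), M.mul _ hw' _ (inv_mem hw), h1 w hw, ← M.mul _ hw _ (inv_mem hw),
      mul_inv_cancel]
    exact (M.ker 1 (one_mem _)).2 (one_mem _)

/-- `Sb` for `V_{P'}` -/
theorem sb {k m : ℕ} (hm : 2 ≤ m)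
    (M : SymKM (S : Subgroup G) P' (zl (S : Subgroup G) P') (cv (S : Subgroup G) P') k m) : Sb M where
  m2 := hm
  S2 := S.isPGroup'
  SP' := hP'.le
  V2 := zl_el hG hP'
  VP' := le_normalizer_zl _ _
  DV := inf_le_left
  DP' := le_normalizer_cv
  triv g hg h1 h2 v hv := by
    refine comm_of_both hG S hP' ⟨hg, fun w hw => ?_⟩ h2 v hv
    have hw' : g * w * g⁻¹ ∈ zl (S : Subgroup G) P' := conjZ hg hw
    rw [← M.ker _ (mul_mem hw' (inv_mem hw)), M.mul _ hw' _ (inv_mem hw), h1 w hw, ← M.mul _ hw _ (inv_mem hw),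
      mul_inv_cancel]
    exact (M.ker 1 (one_mem _)).2 (one_mem _)

end blocks

/-! ### The setting -/

section sit

variable (hG : IsCharacteristicTwoType G) (hP : IsParS (S : Subgroup G) P) (hP' : IsParS (S : Subgroup G) P')
  (hL : IsLoc (S : Subgroup G) (P ⊔ P'))

include hG hL in
theorem zl_sup_le : zl (S : Subgroup G) (P ⊔ P') ≤ zc (o2 (P ⊔ P')) := hL.zl_le S hG

include hG hL in
theorem zl_sup_S : zl (S : Subgroup G) (P ⊔ P') ≤ (S : Subgroup G) :=
  (zl_sup_le hG hL).trans ((zc_le _).trans (hL.o2_le S))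

include hG hL in
theorem zl_sup_el : IsElementaryAbelian 2 (zl (S : Subgroup G) (P ⊔ P')) :=
  PLocal.ThompsonJ.isElementaryAbelian_iff.2
    ⟨fun _ ha _ hb => (ChoiceBase.mem_zc.1 (zl_sup_le hG hL hb)).2.2 _ (ChoiceBase.mem_zc.1 (zl_sup_le hG hL ha)).1,
    fun _ ha => (ChoiceBase.mem_zc.1 (zl_sup_le hG hL ha)).2.1⟩

include hG hP hP' hL

/-- **The setting of THEOREM B.** -/
theorem bsit {FF : Set (Subgroup G)} (F : BFam (S : Subgroup G) (zl (S : Subgroup G) (P ⊔ P')) (P ⊔ P') FF)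
    (h1 : ∀ A ∈ FF, A ≤ o2 P) (h2 : ∃ A ∈ FF, ¬ A ≤ o2 P') :
    BSit (S : Subgroup G) P P' (zl (S : Subgroup G) (P ⊔ P')) (zl (S : Subgroup G) P') (P ⊔ P') FF where
  toBFam := F
  SP := hP.le
  SP' := hP'.le
  PL := le_sup_left
  PL' := le_sup_right
  LU := le_normalizer_zl _ _
  U2 := zl_sup_el hG hL
  VU := zl_le (ZN.zc_le_zl) (le_sup_right.trans (le_normalizer_zl _ _))
  VP' := le_normalizer_zl _ _
  PS A hA g hg := conj_le_of_le_o2 hP.toIsPar (h1 A hA) hg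
  PS' A hA hc g hg := conj_le_of_cent hG hP' (F.le A hA) hc hg
  nC := by
    obtain ⟨A, hA, hAQ⟩ := h2
    refine ⟨A, hA, fun hc => hAQ ?_⟩
    rw [← IsParS.inf_centralizer S hG hP']
    exact le_inf (F.le A hA) hc
  op N hN hNP hNP' := Level.le_centralizer_zl hN (sup_le hNP hNP')

/-- level `-1` : `A(S)` -/
theorem bsit_AA (h1 : jj (S : Subgroup G) ≤ o2 P) (h2 : ¬ jj (S : Subgroup G) ≤ o2 P') :
    BSit (S : Subgroup G) P P' (zl (S : Subgroup G) (P ⊔ P')) (zl (S : Subgroup G) P') (P ⊔ P')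
      (AA (S : Subgroup G)) := by
  refine bsit hG hP hP' hL (bfam_AA (zl_sup_el hG hL) (zl_sup_S hG hL)) (fun A hA => (le_jj hA).trans h1) ?_
  by_contra hcon
  push Not at hcon
  rw [jj_eq] at h2
  exact h2 (sSup_le hcon)

/-- the levels -/
theorem bsit_BO {K : Subgroup G} (hK : Lev (S : Subgroup G) K) (hK1 : K ≤ o2 P) (hK2 : K ≤ o2 P')
    (h1 : ∀ A ∈ BO (S : Subgroup G) K, A ≤ o2 P) (h2 : ∃ A ∈ BO (S : Subgroup G) K, ¬ A ≤ o2 P') :
    BSit (S : Subgroup G) P P' (zl (S : Subgroup G) (P ⊔ P')) (zl (S : Subgroup G) P') (P ⊔ P')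
      (BO (S : Subgroup G) K) := by
  have hLK : P ⊔ P' ≤ normalizer (K : Set G) :=
    sup_le (hK.le_norm_of_o2 hK1 (hP.isLoc.o2_le S)) (hK.le_norm_of_o2 hK2 (hP'.isLoc.o2_le S))
  exact bsit hG hP hP' hL (bfam_BO (zl_le_zc_of_norm hK hLK) hLK) h1 h2

/-! ### (B1) -/

omit hP' in
/-- an element of `U` fixed by `P` is in `C_Z(P)` -/
theorem false_of_fix (hcen : zc (S : Subgroup G) ⊓ centralizer (P : Set G) = ⊥)
    (h : ∃ z ∈ zl (S : Subgroup G) (P ⊔ P'), z ≠ 1 ∧ ∀ g ∈ P, g * z = z * g) : False := by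
  obtain ⟨z, hz, hz1, hc⟩ := h
  apply hz1
  have h1 : z ∈ zc (S : Subgroup G) ⊓ centralizer (P : Set G) := by
    refine ⟨ChoiceBase.mem_zc.2 ⟨zl_sup_S hG hL hz, (ChoiceBase.mem_zc.1 (zl_sup_le hG hL hz)).2.1,
      fun s hs => hc s (hP.le hs)⟩, mem_centralizer_iff.2 fun g hg => hc g hg⟩
  rw [hcen] at h1
  exact mem_bot.1 h1

/-- **(B1)**, natural modules over `F₂` -/
theorem no_two {FF : Set (Subgroup G)}
    (X : BSit (S : Subgroup G) P P' (zl (S : Subgroup G) (P ⊔ P')) (zl (S : Subgroup G) P') (P ⊔ P') FF)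
    (hcen : zc (S : Subgroup G) ⊓ centralizer (P : Set G) = ⊥) {F : Type} [Field F] [Finite F] [CharP F 2] {k : ℕ}
    (M : NatKM F (S : Subgroup G) P' (zl (S : Subgroup G) P') (cv (S : Subgroup G) P') k) : 4 ≤ Nat.card F := by
  classical
  by_contra hcon
  have : Fintype F := Fintype.ofFinite F
  have h3 : Nat.card F = 2 := by
    obtain ⟨e, -, he⟩ := FiniteField.card F 2
    rw [Nat.card_eq_fintype_card, he] at hcon ⊢
    have he0 : 0 < (e : ℕ) := e.pos
    have he1 : (e : ℕ) < 2 := by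
      by_contra hge
      have : 2 ^ 2 ≤ 2 ^ (e : ℕ) := Nat.pow_le_pow_right (by norm_num) (by omega)
      omega
    have he2 : (e : ℕ) = 1 := by omega
    rw [he2, pow_one]
  have h2 : ∀ β : F, β = 0 ∨ β = 1 := by
    rw [Nat.card_eq_two_iff' (0 : F)] at h3
    obtain ⟨y, -, hy⟩ := h3
    intro β
    by_cases hβ : β = 0
    · exact Or.inl hβ
    · exact Or.inr ((hy β hβ).trans (hy 1 one_ne_zero).symm)
  exact false_of_fix hG hP hL hcen ((nb hG hP' M).fix X h2)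

/-- **(B1)**, even-subset modules -/
theorem no_sym {FF : Set (Subgroup G)}
    (X : BSit (S : Subgroup G) P P' (zl (S : Subgroup G) (P ⊔ P')) (zl (S : Subgroup G) P') (P ⊔ P') FF)
    (hcen : zc (S : Subgroup G) ⊓ centralizer (P : Set G) = ⊥) {k m : ℕ} (hm : 2 ≤ m)
    (M : SymKM (S : Subgroup G) P' (zl (S : Subgroup G) P') (cv (S : Subgroup G) P') k m) : False :=
  false_of_fix hG hP hL hcen ((sb hG hP' hm M).fix X)

/-! ### `P'` is of type `SL₂(F)^k`, `|F| ≥ 4` -/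

/-- the conclusion of (B1) -/
def Four (S P' : Subgroup G) : Prop :=
  ∃ (F : Type) (_ : Field F) (_ : Finite F) (_ : CharP F 2) (k : ℕ),
    0 < k ∧ 4 ≤ Nat.card F ∧ Nonempty (NatKM F S P' (zl S P') (cv S P') k)

omit hP hL hG in
theorem offM_of_bfam {L U : Subgroup G} {FF : Set (Subgroup G)} (hG : IsCharacteristicTwoType G)
    (F : BFam (S : Subgroup G) U L FF) (hU : IsElementaryAbelian 2 U) (hVU : zl (S : Subgroup G) P' ≤ U)
    (h2 : ∃ A ∈ FF, ¬ A ≤ o2 P') : ∃ A : Subgroup G, A ≤ P' ∧ OffM (zl (S : Subgroup G) P') A := by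
  obtain ⟨A, hA, hAQ⟩ := h2
  refine ⟨A, (F.le A hA).trans hP'.le, F.offM hU hVU hA fun hc => hAQ ?_⟩
  rw [← IsParS.inf_centralizer S hG hP']
  exact le_inf (F.le A hA) hc

/-- **(B1)** -/
theorem four_of (hFF : StmtM.{u}) {FF : Set (Subgroup G)}
    (X : BSit (S : Subgroup G) P P' (zl (S : Subgroup G) (P ⊔ P')) (zl (S : Subgroup G) P') (P ⊔ P') FF)
    (h2 : ∃ A ∈ FF, ¬ A ≤ o2 P') (hcen : zc (S : Subgroup G) ⊓ centralizer (P : Set G) = ⊥) :
    Four (S : Subgroup G) P' := by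
  obtain ⟨-, hcon⟩ := hFF G (S : Subgroup G) P' (OneLine.syl_of hP') hP'.toIsMinPar (hP'.isLoc.char2 S hG)
    (offM_of_bfam hP' hG X.toBFam X.U2 X.VU h2)
  rcases hcon with ⟨F, i1, i2, i3, k, hk, ⟨M⟩⟩ | ⟨k, m, hk, hm, ⟨M⟩⟩
  · exact ⟨F, i1, i2, i3, k, hk, no_two hG hP hP' hL X hcen M, ⟨M⟩⟩
  · exact (no_sym hG hP hP' hL X hcen hm M).elim

/-- (B1), level `-1` -/
theorem four_AA (hFF : StmtM.{u}) (h1 : jj (S : Subgroup G) ≤ o2 P) (h2 : ¬ jj (S : Subgroup G) ≤ o2 P')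
    (hcen : zc (S : Subgroup G) ⊓ centralizer (P : Set G) = ⊥) : Four (S : Subgroup G) P' := by
  refine four_of hG hP hP' hL hFF (bsit_AA hG hP hP' hL h1 h2) ?_ hcen
  by_contra hcon
  push Not at hcon
  rw [jj_eq] at h2
  exact h2 (sSup_le hcon)

/-- (B1) at a level `K` -/
theorem four_BO (hFF : StmtM.{u}) {K : Subgroup G} (hK : Lev (S : Subgroup G) K) (hK1 : K ≤ o2 P) (hK2 : K ≤ o2 P')
    (h1 : ∀ A ∈ BO (S : Subgroup G) K, A ≤ o2 P) (h2 : ∃ A ∈ BO (S : Subgroup G) K, ¬ A ≤ o2 P')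
    (hcen : zc (S : Subgroup G) ⊓ centralizer (P : Set G) = ⊥) : Four (S : Subgroup G) P' :=
  four_of hG hP hP' hL hFF (bsit_BO hG hP hP' hL hK hK1 hK2 h1 h2) h2 hcen

omit hP hL in
/-- some best offender on the level `K ≤ O₂(P')` is not in `O₂(P')` if the next level is not. -/
theorem exists_BO {K : Subgroup G} (hK : Lev (S : Subgroup G) K) (hK2 : K ≤ o2 P')
    (h : ¬ nxt (S : Subgroup G) K ≤ o2 P') : ∃ A ∈ BO (S : Subgroup G) K, ¬ A ≤ o2 P' := by
  by_contra hcon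
  push Not at hcon
  apply h
  refine sup_le ?_ (sSup_le hcon)
  rw [← IsParS.inf_centralizer S hG hP']
  exact inf_le_inf_left _ (centralizer_le
    ((hP'.isLoc.zl_le S hG).trans (hK.zc_o2_le hK2 (hP'.isLoc.o2_le S))))

/-- (B1) at the level `K`: `nxt K ≤ O₂(P)`, `K ≤ O₂(P')`, `nxt K ≰ O₂(P')` -/
theorem four_nxt (hFF : StmtM.{u}) {K : Subgroup G} (hK : Lev (S : Subgroup G) K)
    (hK1 : nxt (S : Subgroup G) K ≤ o2 P) (hK2 : K ≤ o2 P') (hK3 : ¬ nxt (S : Subgroup G) K ≤ o2 P')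
    (hcen : zc (S : Subgroup G) ⊓ centralizer (P : Set G) = ⊥) : Four (S : Subgroup G) P' :=
  four_BO hG hP hP' hL hFF hK ((Level.le_nxt hK.le).trans hK1) hK2
    (fun _ hA => (Level.BO.le_nxt hA).trans hK1) (exists_BO hG hP' hK hK2 hK3) hcen

/-- (B1) at the level `n` -/
theorem four_lev (hFF : StmtM.{u}) {n : ℕ} (h1 : lev (S : Subgroup G) (n + 1) ≤ o2 P)
    (h2 : lev (S : Subgroup G) n ≤ o2 P') (h3 : ¬ lev (S : Subgroup G) (n + 1) ≤ o2 P')
    (hcen : zc (S : Subgroup G) ⊓ centralizer (P : Set G) = ⊥) : Four (S : Subgroup G) P' :=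
  four_nxt hG hP hP' hL hFF (lev_isLev _ n) h1 h2 h3 hcen

end sit

end Cfsg.Agent.Omega.NO3S.ThmB.Inst

end
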