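import Cfsg.Agent.Mrg.Omega.NO3S.ThmB.End.NatIdx
import Cfsg.Agent.Mrg.Omega.NO3S.ThmB.Cyc
import Cfsg.Agent.Mrg.Omega.NO3S.ThmB.Best
import Cfsg.Agent.Mrg.Omega.NO3S.Level.Lim
import Cfsg.Agent.Mrg.Omega.Exit.WeakClosed
import Cfsg.Agent.Mrg.Omega.NoFF.ThmJ
import Cfsg.Agent.Mrg.Omega.NO3S.Fld.ZJ
import Cfsg.Agent.Mrg.Omega.NO3S.FF
import Cfsg.Agent.Mrg.Omega.FF.GlobEnd
import Cfsg.Agent.Mrg.Omega.NO3S.ThmB.Inst
import Cfsg.Agent.Mrg.Omega.TTn.DiCoreAbs
import Cfsg.Agent.MinSimple.Geo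

-- merged: Cfsg.Agent.Mrg.Omega.NO3S.ThmB.B2Nat
section

/-!
# THEOREM B, (B2): the end, natural case, without hypotheses on `[V, B]`

* `Nb.trHyp` : `TrHyp` from the fields `fx`, `nZ`, `tr` and `Z ≤ V`, `¬ Z ≤ D`;
* `Nb.no_nat` : **(B2)**: `P'` natural, `W = ⟨Z^P⟩` a sum of natural `SL₂(F₀)`-modules for `P`, `4 ≤ |F₀|`, `N_P(S)`
  transitive on `Z#`: impossible.
-/

set_option autoImplicit false

namespace Cfsg.Agent.Omega.NO3S.ThmB

open Subgroup Cfsg Cfsg.Agent.ZN Cfsg.Agent.ZN.ChoiceBase Cfsg.Agent.ZN.ChoiceSit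
open Cfsg.Agent.Omega.FFThm Cfsg.Agent.Omega.NatPair Cfsg.Agent.Lib.SL2Mat

universe u

variable {G : Type u} [Group G]

namespace Nb

variable [Finite G] {F : Type} [Field F] [Finite F] [CharP F 2] {S P P' V D U L : Subgroup G} {k : ℕ}
  {M : NatKM F S P' V D k} (h : Nb M) {AA : Set (Subgroup G)} (X : BSit S P P' U V L AA)

include h X

/-- the hypotheses of (7) -/
theorem trHyp {Z : Subgroup G}
    (fx : ∀ M : Subgroup G, M ≤ U → S ≤ normalizer (M : Set G) → M ≠ ⊥ → ∃ z ∈ M, z ∈ Z ∧ z ≠ 1)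
    (nZ : ∀ g ∈ P, g ∈ normalizer (S : Set G) → ∀ z ∈ Z, g * z * g⁻¹ ∈ Z)
    (tr : ∀ z ∈ Z, ∀ z' ∈ Z, z ≠ 1 → z' ≠ 1 → ∃ g ∈ P, g ∈ normalizer (S : Set G) ∧ g * z * g⁻¹ = z')
    (hZV : Z ≤ V) (hZD : ¬ Z ≤ D) : TrHyp S P P' U V (DM U AA) Z where
  fx := fx
  nZ := nZ
  tr := tr
  mv := h.mv X hZV hZD
  orb := fun _ hB _ hB' => h.orb X hB hB'
  n0 := fun _ hB => h.n0 X hB

variable {Z : Subgroup G} (T : TrHyp S P P' U V (DM U AA) Z)
variable {F0 : Type} [Field F0] [Finite F0] [CharP F0 2] {W D0 : Subgroup G} {k0 : ℕ} (N : NatK F0 S P W D0 k0)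

include T N

/-- **(B2), natural modules, `4 ≤ |F₀|`.** -/
theorem no_nat (h4 : 4 ≤ Nat.card F0) (hS : Syl S P) (hWP : P ≤ normalizer (W : Set G)) (hD0 : D0 = ⊥) (hZW : Z ≤ W)
    (gen : ∀ K : Subgroup G, Z ≤ K → P ≤ normalizer (K : Set G) → W ≤ K) : False := by
  obtain ⟨B, hB⟩ := X.ex
  obtain ⟨i, O⟩ := h.one X hB
  have key : ∀ s ∈ S, ∀ t ∈ S, t ∈ normalizer ((⁅V, B⁆ : Subgroup G) : Set G) → ∀ n : ℕ,
      (∀ x ∈ ⁅V, B⁆, s * t ^ n * x = x * (s * t ^ n)) →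
      ∃ n : ℤ, ∀ x ∈ ⁅V, B⁆, s * x * s⁻¹ = t ^ n * x * (t ^ n)⁻¹ := by
    intro s _ t _ htN n hn
    refine ⟨-(n : ℤ), fun x hx => ?_⟩
    have hy : t ^ (-(n : ℤ)) * x * (t ^ (-(n : ℤ)))⁻¹ ∈ ⁅V, B⁆ :=
      (mem_normalizer_iff.1 (zpow_mem htN (-(n : ℤ))) x).1 hx
    have h1 := hn _ hy
    rw [zpow_neg, zpow_natCast, inv_inv] at h1 ⊢
    calc s * x * s⁻¹ = (s * t ^ n * ((t ^ n)⁻¹ * x * t ^ n)) * (s * t ^ n)⁻¹ := by group
      _ = ((t ^ n)⁻¹ * x * t ^ n * (s * t ^ n)) * (s * t ^ n)⁻¹ := by rw [h1]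
      _ = (t ^ n)⁻¹ * x * t ^ n := by group
  refine h.b2 X T N h4 hS hWP hD0 hZW gen hB fun s hs hsN s' hs' hsN' => ?_
  obtain ⟨n, h1 | h1⟩ := h.chain hS.2.1 (X.le _ hB.1.1) X.VU O hs hsN hs' hsN'
  · exact Or.inl (key s hs s' hs' hsN' n h1)
  · exact Or.inr (key s' hs' s hs hsN n h1)

end Nb

end Cfsg.Agent.Omega.NO3S.ThmB

end

-- merged: Cfsg.Agent.Mrg.Omega.NO3S.ThmB.TrNat
section

/-!
# THEOREM B, (7), natural case: `N_P(S)` is transitive on `Z#`

`W` is a sum of natural `SL₂(F)`-modules for `P` (`NatK F S P W ⊥ k`), `S` is a Sylow 2-subgroup of `P` and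
`Z = W ∩ C(S)`.  The fields `fx`, `nZ`, `tr` of `TrHyp`.

`tr`: the components of `z ∈ Z#` are nonzero and lie on the lines `x 1 = 0`; for `z, z' ∈ Z#` let `t ∈ P` act as the
family `dg (z'_i / z_i)`.  Then `S^t ≤ S C_P(W)`, and Sylow's theorem in `S C_P(W)` gives `c ∈ C_P(W)` with
`c t ∈ N_P(S)`.
-/

set_option autoImplicit false

namespace Cfsg.Agent.Omega.NO3S.ThmB.TrNat

open Subgroup Cfsg Cfsg.Agent.ZN Cfsg.Agent.ZN.ChoiceBase Cfsg.Agent.ZN.ChoiceSit
open Cfsg.Agent.Omega.FFThm Cfsg.Agent.Omega.NO3S.ThmB.End.NatIdx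
open Cfsg.Agent.Omega.NatPair (ap ap_mul ap_one ap_inv_ap ap_ap_inv ap_inj ap_zero' ap_one' ext2)
open Cfsg.Agent.Lib.SL2Mat

universe u

variable {G : Type u} [Group G]

/-- a 2-group fixes a nontrivial element of a nontrivial 2-group -/
theorem exists_fixed [Finite G] {S M : Subgroup G} (hS : IsPGroup 2 S) (hM : IsPGroup 2 M)
    (hSM : S ≤ normalizer (M : Set G)) (hne : M ≠ ⊥) : ∃ d ∈ M, d ≠ 1 ∧ ∀ s ∈ S, s * d = d * s := by
  have : Fact (Nat.Prime 2) := ⟨Nat.prime_two⟩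
  let _ : MulAction S M :=
    { smul := fun s d => ⟨(s : G) * d * (s : G)⁻¹, (mem_normalizer_iff.1 (hSM s.2) d).1 d.2⟩
      one_smul := fun d => Subtype.ext (by
        show (1 : G) * d * (1 : G)⁻¹ = d
        group)
      mul_smul := fun s t d => Subtype.ext (by
        show (s : G) * t * d * ((s : G) * t)⁻¹ = (s : G) * ((t : G) * d * (t : G)⁻¹) * (s : G)⁻¹
        group) }
  have h2 : 2 ∣ Nat.card M := by
    obtain ⟨n, hn⟩ := IsPGroup.iff_card.1 hM
    rw [hn]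
    have : n ≠ 0 := by
      rintro rfl
      rw [pow_zero] at hn
      exact hne (Subgroup.card_eq_one.1 hn)
    exact dvd_pow_self 2 this
  obtain ⟨d, hd, hd1⟩ := hS.exists_fixed_point_of_prime_dvd_card_of_fixed_point M h2 (a := 1) (by
    intro s
    apply Subtype.ext
    show (s : G) * (1 : G) * (s : G)⁻¹ = 1
    group)
  refine ⟨d, d.2, fun e => hd1 (Subtype.ext e.symm), fun s hs => ?_⟩
  have h3 : (⟨s, hs⟩ : S) • d = d := hd _
  have h4 : s * (d : G) * s⁻¹ = d := congrArg Subtype.val h3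
  exact mul_inv_eq_iff_eq_mul.1 h4

/-- the field `fx` -/
theorem fx [Finite G] {S W : Subgroup G} (hS : IsPGroup 2 S) (hW : IsPGroup 2 W) :
    ∀ M : Subgroup G, M ≤ W → S ≤ normalizer (M : Set G) → M ≠ ⊥ →
      ∃ z ∈ M, z ∈ W ⊓ centralizer (S : Set G) ∧ z ≠ 1 := by
  intro M hM hSM hne
  obtain ⟨d, hd, hd1, hc⟩ := exists_fixed hS (hW.to_le hM) hSM hne
  exact ⟨d, hd, ⟨hM hd, mem_centralizer_iff.2 hc⟩, hd1⟩

/-- the field `nZ` -/
theorem nZ {S P W : Subgroup G} (hW : P ≤ normalizer (W : Set G)) :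
    ∀ g ∈ P, g ∈ normalizer (S : Set G) → ∀ z ∈ W ⊓ centralizer (S : Set G),
      g * z * g⁻¹ ∈ W ⊓ centralizer (S : Set G) := by
  rintro g hg hgS z ⟨hzW, hzS⟩
  refine ⟨(mem_normalizer_iff.1 (hW hg) z).1 hzW, mem_centralizer_iff.2 fun s hs => ?_⟩
  have h1 : g⁻¹ * s * g ∈ S := by
    have h2 := (mem_normalizer_iff.1 (inv_mem hgS) s).1 hs
    rwa [inv_inv] at h2
  have h2 := mem_centralizer_iff.1 hzS _ h1
  calc s * (g * z * g⁻¹) = g * (g⁻¹ * s * g * z) * g⁻¹ := by group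
    _ = g * (z * (g⁻¹ * s * g)) * g⁻¹ := by rw [h2]
    _ = g * z * g⁻¹ * s := by group

/-- a Sylow subgroup of `P` is a Sylow subgroup of every intermediate group -/
theorem syl_of_le {S K P : Subgroup G} (hS : Syl S P) (hSK : S ≤ K) (hK : K ≤ P) : Syl S K :=
  ⟨hSK, hS.2.1, fun Q hQ h2 h => hS.2.2 Q (hQ.trans hK) h2 h⟩

/-- Frattini: if `S^t ≤ S C` with `C` normalised by `S`, then `c t` normalises `S` for some `c ∈ C`. -/
theorem exists_normalizer [Finite G] {S P C : Subgroup G} (hS : Syl S P) (hCP : C ≤ P)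
    (hSC : S ≤ normalizer (C : Set G)) {t : G} (ht : t ∈ P)
    (h : ∀ s ∈ S, ∃ s' ∈ S, ∃ c ∈ C, t * s * t⁻¹ = s' * c) :
    ∃ c ∈ C, c * t ∈ normalizer (S : Set G) := by
  have hK : S ⊔ C ≤ P := sup_le hS.1 hCP
  have h1 : cj t S ≤ S ⊔ C := by
    rintro _ ⟨s, hs, rfl⟩
    obtain ⟨s', hs', c, hc, e⟩ := h s hs
    change t * s * t⁻¹ ∈ S ⊔ C
    rw [e]
    exact mul_mem (mem_sup_left hs') (mem_sup_right hc)
  have h2 : Syl (cj t S) (S ⊔ C) := by
    refine syl_of_le (P := P) ⟨h1.trans hK, hS.2.1.map _, fun Q hQ h2 h => ?_⟩ h1 hK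
    have h4 : cj t⁻¹ Q ≤ P := by
      have h5 := cj_mono t⁻¹ hQ
      rwa [cj_eq_of_mem_normalizer (le_normalizer (inv_mem ht))] at h5
    have h5 : S ≤ cj t⁻¹ Q := by
      have h6 := cj_mono t⁻¹ h
      rwa [cj_inv_cj] at h6
    rw [← hS.2.2 _ h4 (h2.map _) h5, cj_cj_inv]
  obtain ⟨x, hx, e⟩ := syl_conj h2 (syl_of_le hS le_sup_left hK)
  obtain ⟨c, hc, s, hs, hcs⟩ : ∃ c ∈ C, ∃ s ∈ S, s * c = x := by
    have h4 : x ∈ ((S ⊔ C : Subgroup G) : Set G) := hx
    rw [Subgroup.coe_mul_of_left_le_normalizer_right S C hSC] at h4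
    obtain ⟨s, hs, c, hc, e⟩ := Set.mem_mul.1 h4
    exact ⟨c, hc, s, hs, e⟩
  refine ⟨c, hc, mem_normalizer_iff_cj.2 ?_⟩
  have h5 := congrArg (cj s⁻¹) e
  rw [cj_cj, cj_cj, cj_eq_of_mem_normalizer (le_normalizer (inv_mem hs))] at h5
  have h6 : s⁻¹ * (x * t) = c * t := by rw [← hcs]; group
  rwa [mul_assoc, h6] at h5

variable {F : Type} [Field F] {S P W : Subgroup G} {k : ℕ} (N : NatK F S P W ⊥ k)

include N

theorem comp {z : G} (hz : z ∈ W ⊓ centralizer (S : Set G)) (hz1 : z ≠ 1) (i : Fin k) :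
    N.e z i 1 = 0 ∧ N.e z i 0 ≠ 0 := by
  have hfix : ∀ s ∈ S, s * z * s⁻¹ = z := fun s hs => by
    rw [mem_centralizer_iff.1 hz.2 s hs]; group
  have h1 : ∀ i, N.e z i 1 = 0 := fun i => by
    obtain ⟨s, hs, hA⟩ := N.unip fun _ => 1
    have h2 := hA.1 z hz.1 i
    rw [hfix s hs] at h2
    have h3 := congrFun h2 0
    rw [ap_zero', up_00, up_01, one_mul, one_mul] at h3
    exact left_eq_add.1 h3
  refine ⟨h1 i, fun h0 => hz1 ?_⟩
  have h2 : ∀ j, N.e z j = 0 := fun j => by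
    obtain ⟨s, hs, hA⟩ := N.trans i j
    have h3 := hA z hz.1
    rw [hfix s hs] at h3
    exact h3.2 (ext2 h0 (h1 i))
  have h3 := (N.ker z hz.1).1 (funext h2)
  exact mem_bot.1 h3

/-- the field `tr` -/
theorem tr [Finite G] (hW : P ≤ normalizer (W : Set G)) (hS : Syl S P) :
    ∀ z ∈ W ⊓ centralizer (S : Set G), ∀ z' ∈ W ⊓ centralizer (S : Set G), z ≠ 1 → z' ≠ 1 →
      ∃ g ∈ P, g ∈ normalizer (S : Set G) ∧ g * z * g⁻¹ = z' := by
  intro z hz z' hz' hz1 hz1'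
  have h1 := comp N hz hz1
  have h2 := comp N hz' hz1'
  obtain ⟨t, ht, hA⟩ := N.lift fun i => dg (N.e z' i 0 / N.e z i 0) (div_ne_zero (h2 i).2 (h1 i).2)
  have hinj : ∀ v ∈ W, ∀ w ∈ W, N.e v = N.e w → v = w := fun v hv w hw hvw => by
    have hvw' : w * (w⁻¹ * v) = v := by group
    have h3 := N.mul w hw _ (mul_mem (inv_mem hw) hv)
    rw [hvw', hvw] at h3
    have h4 := (N.ker _ (mul_mem (inv_mem hw) hv)).1 (left_eq_add.1 h3)
    exact (inv_mul_eq_one.1 (mem_bot.1 h4)).symm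
  have hfix : ∀ z ∈ W ⊓ centralizer (S : Set G), ∀ s ∈ S, s * z * s⁻¹ = z := fun z hz s hs => by
    rw [mem_centralizer_iff.1 hz.2 s hs]; group
  have hcj : ∀ g ∈ P, ∀ v ∈ W, g * v * g⁻¹ ∈ W := fun g hg v hv => (mem_normalizer_iff.1 (hW hg) v).1 hv
  have htz : t * z * t⁻¹ = z' := by
    refine hinj _ (hcj t ht z hz.1) _ hz'.1 (funext fun i => ?_)
    rw [hA.1 z hz.1 i]
    apply ext2
    · have h3 := (h1 i).2
      rw [ap_zero', dg_00, dg_01]
      field_simp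
      ring
    · rw [ap_one', dg_10, dg_11, (h1 i).1, (h2 i).1]
      ring
  -- `s t s⁻¹ ∈ S t C_P(W)`
  have key : ∀ s ∈ S, ∃ u ∈ S, ∃ c ∈ P ⊓ centralizer (W : Set G), s * t * s⁻¹ = u * t * c := by
    intro s hs
    have hsP := hS.1 hs
    obtain ⟨B, hB⟩ := N.norm s hsP t ht _ hA.1
    obtain ⟨σ, hσ⟩ := N.line s hs
    -- `B i` is upper triangular
    have hB10 : ∀ i, ent (B i) 1 0 = 0 := fun i => by
      obtain ⟨v, hv, hev⟩ := N.surj fun _ => ![1, 0]
      have h3 : N.e (s⁻¹ * v * s) (σ.symm i) 1 = 0 := by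
        have h4 : s⁻¹ * v * s ∈ W := by
          have h5 := hcj s⁻¹ (inv_mem hsP) v hv
          rwa [inv_inv] at h5
        have h5 := hσ _ h4 (σ.symm i)
        have h6 : s * (s⁻¹ * v * s) * s⁻¹ = v := by group
        rw [h6, Equiv.apply_symm_apply, hev] at h5
        exact h5.1 rfl
      have h4 : s⁻¹ * v * s ∈ W := by
        have h5 := hcj s⁻¹ (inv_mem hsP) v hv
        rwa [inv_inv] at h5
      have h5 : N.e (t * (s⁻¹ * v * s) * t⁻¹) (σ.symm i) 1 = 0 := by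
        rw [hA.1 _ h4, ap_one', dg_10, dg_11, h3]
        ring
      have h6 := (hσ _ (hcj t ht _ h4) (σ.symm i)).2 h5
      have h7 : s * (t * (s⁻¹ * v * s) * t⁻¹) * s⁻¹ = s * t * s⁻¹ * v * (s * t * s⁻¹)⁻¹ := by group
      rw [h7, Equiv.apply_symm_apply, hB v hv i, hev, ap_one'] at h6
      simpa using h6
    -- `B i` maps `z_i` to `z'_i`
    have hBz : s * t * s⁻¹ * z * (s * t * s⁻¹)⁻¹ = z' := by
      have h3 := hfix z hz s⁻¹ (inv_mem hs)
      have h4 : s * t * s⁻¹ * z * (s * t * s⁻¹)⁻¹ = s * (t * (s⁻¹ * z * s⁻¹⁻¹) * t⁻¹) * s⁻¹ := by group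
      rw [h4, h3, htz]
      exact hfix z' hz' s hs
    have hB00 : ∀ i, ent (B i) 0 0 = N.e z' i 0 / N.e z i 0 := fun i => by
      have h3 := hB z hz.1 i
      rw [hBz] at h3
      have h4 := congrFun h3 0
      rw [ap_zero', (h1 i).1, mul_zero, add_zero] at h4
      rw [h4, mul_div_assoc, div_self (h1 i).2, mul_one]
    have hBu : ∀ i, ∃ b : F, B i = up b * dg (N.e z' i 0 / N.e z i 0) (div_ne_zero (h2 i).2 (h1 i).2) := fun i => by
      have hd := det_eq (B i)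
      rw [hB10 i, hB00 i, mul_zero, sub_zero] at hd
      have h0 := div_ne_zero (h2 i).2 (h1 i).2
      have h11 : ent (B i) 1 1 = (N.e z' i 0 / N.e z i 0)⁻¹ := eq_inv_of_mul_eq_one_right hd
      refine ⟨ent (B i) 0 1 * (N.e z' i 0 / N.e z i 0), ?_⟩
      refine ext_ent ?_ ?_ ?_ ?_
      · rw [ent_mul, up_00, dg_00, up_01, dg_10, hB00 i]; ring
      · rw [ent_mul, up_00, dg_01, up_01, dg_11, mul_assoc, mul_inv_cancel₀ h0]; ring
      · rw [ent_mul, up_10, dg_00, up_11, dg_10, hB10 i]; ring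
      · rw [ent_mul, up_10, dg_01, up_11, dg_11, h11]; ring
    choose b hb using hBu
    obtain ⟨u, hu, hU⟩ := N.unip b
    have huP := hS.1 hu
    -- `s t s⁻¹` acts like `u t`
    have hact : ∀ v ∈ W, s * t * s⁻¹ * v * (s * t * s⁻¹)⁻¹ = u * t * v * (u * t)⁻¹ := by
      intro v hv
      refine hinj _ (hcj _ (mul_mem (mul_mem hsP ht) (inv_mem hsP)) v hv) _ (hcj _ (mul_mem huP ht) v hv)
        (funext fun i => ?_)
      have h3 : u * t * v * (u * t)⁻¹ = u * (t * v * t⁻¹) * u⁻¹ := by group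
      rw [hB v hv i, h3, hU.1 _ (hcj t ht v hv) i, hA.1 v hv i, hb i, ap_mul]
    -- `c = (u t)⁻¹ (s t s⁻¹)` centralises `W`
    refine ⟨u, hu, (u * t)⁻¹ * (s * t * s⁻¹), ⟨P.mul_mem (P.inv_mem (P.mul_mem huP ht))
      (P.mul_mem (P.mul_mem hsP ht) (P.inv_mem hsP)), mem_centralizer_iff.2 fun v hv => ?_⟩, by group⟩
    have h3 := hact v hv
    calc v * ((u * t)⁻¹ * (s * t * s⁻¹))
        = (u * t)⁻¹ * (u * t * v * (u * t)⁻¹) * (s * t * s⁻¹) := by group
      _ = (u * t)⁻¹ * (s * t * s⁻¹ * v * (s * t * s⁻¹)⁻¹) * (s * t * s⁻¹) := by rw [← h3]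
      _ = (u * t)⁻¹ * (s * t * s⁻¹) * v := by group
  have hPC : ∀ g ∈ P, ∀ c ∈ P ⊓ centralizer (W : Set G), g * c * g⁻¹ ∈ P ⊓ centralizer (W : Set G) := by
    rintro g hg c ⟨hc, hcW⟩
    refine ⟨P.mul_mem (P.mul_mem hg hc) (P.inv_mem hg), mem_centralizer_iff.2 fun v hv => ?_⟩
    have h3 := hcj g⁻¹ (inv_mem hg) v hv
    have h4 := mem_centralizer_iff.1 hcW _ h3
    calc v * (g * c * g⁻¹) = g * (g⁻¹ * v * g⁻¹⁻¹ * c) * g⁻¹ := by group
      _ = g * (c * (g⁻¹ * v * g⁻¹⁻¹)) * g⁻¹ := by rw [h4]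
      _ = g * c * g⁻¹ * v := by group
  have hn : S ≤ normalizer ((P ⊓ centralizer (W : Set G) : Subgroup G) : Set G) := by
    intro s hs
    rw [mem_normalizer_iff]
    intro c
    refine ⟨fun hc => hPC s (hS.1 hs) c hc, fun hc => ?_⟩
    have h3 := hPC s⁻¹ (inv_mem (hS.1 hs)) _ hc
    have h4 : s⁻¹ * (s * c * s⁻¹) * s⁻¹⁻¹ = c := by group
    rwa [h4] at h3
  obtain ⟨c, hc, hct⟩ := exists_normalizer hS inf_le_left hn ht fun s hs => by
    obtain ⟨u, hu, c, hc, e⟩ := key s⁻¹ (inv_mem hs)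
    refine ⟨s * u, mul_mem hs hu, _, hPC t ht c hc, ?_⟩
    calc t * s * t⁻¹ = s * (s⁻¹ * t * s⁻¹⁻¹) * t⁻¹ := by group
      _ = s * (u * t * c) * t⁻¹ := by rw [e]
      _ = s * u * (t * c * t⁻¹) := by group
  refine ⟨c * t, mul_mem hc.1 ht, hct, ?_⟩
  have h3 := mem_centralizer_iff.1 hc.2 z' hz'.1
  calc c * t * z * (c * t)⁻¹ = c * (t * z * t⁻¹) * c⁻¹ := by group
    _ = z' * c * c⁻¹ := by rw [htz, h3]
    _ = z' := by group

end Cfsg.Agent.Omega.NO3S.ThmB.TrNat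

end

-- merged: Cfsg.Agent.Mrg.Omega.NO3S.Level.Socket
section

/-!
# The case `HypC` of NO-3S, cut by `V_P ≤ V^!(S)` (helper781, #16560)

* `FFBeta` : some `P ∈ P**` has `V_P ≰ V^!(S)`; then `V_P` is an FF-module (`HypC.off`): there is a level
  `K ≤ O₂(P)` (`J(S) ≤ K ≤ S`, `N_G(T) ≤ N_G(K)` for `K ≤ T ≤ S`) and a best offender `A ≤ S` on `Ω₁(Z(K)) ≥ V_P` with
  `A ≰ O₂(P)`; the next level `nxt S K` is the join of `C_S(Ω₁(Z(K)))` and these `A`;
* `Gamma` : all `P ∈ P**` have `V_P ≤ V^!(S)`; `V^!(S)` is not FF (`nff_VB`);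
* `jc_of`, `ffJ_of`, `notFF_of`.
-/

set_option autoImplicit false

namespace Cfsg.Agent.Omega.NO3S.Level

open Subgroup Cfsg Cfsg.Agent.ZN Cfsg.Agent.Omega.MinPar Cfsg.Agent.Omega.Frame Cfsg.Agent.Omega.FrameNOFF

universe u

variable (K : Cls.{u})

/-- **(β)** some `P ∈ P**` has `V_P ≰ V^!(S)`. -/
def FFBeta : Prop :=
  ∀ (G : Type u) [Group G] [Finite G], K G → ∀ (S : Sylow 2 G) (P : Subgroup G), HypC S →
    IsParS (S : Subgroup G) P → NonLoc P (CZ (S : Subgroup G)) →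
      ¬ zl (S : Subgroup G) P ≤ VB (S : Subgroup G) → IsKnownSimple' G

/-- **(γ)** all `P ∈ P**` have `V_P ≤ V^!(S)`. -/
def Gamma : Prop :=
  ∀ (G : Type u) [Group G] [Finite G], K G → ∀ S : Sylow 2 G, HypC S →
    (∀ P : Subgroup G, IsParS (S : Subgroup G) P → NonLoc P (CZ (S : Subgroup G)) →
      zl (S : Subgroup G) P ≤ VB (S : Subgroup G)) → IsKnownSimple' G

variable {K}

theorem jc_of (h1 : FFBeta K) (h2 : Gamma K) : JC K := by
  intro G _ _ hK S h
  by_cases hf : ∃ P : Subgroup G, IsParS (S : Subgroup G) P ∧ NonLoc P (CZ (S : Subgroup G)) ∧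
      ¬ zl (S : Subgroup G) P ≤ VB (S : Subgroup G)
  · obtain ⟨P, hP, hn, hff⟩ := hf
    exact h1 G hK S P h hP hn hff
  · push Not at hf
    exact h2 G hK S h hf

section

variable {G : Type u} [Group G] [Finite G] {S : Sylow 2 G} {P : Subgroup G}

/-- **The last level in `O₂(P)`.** -/
theorem HypC.exists_BO (h : HypC S) (hP : IsParS (S : Subgroup G) P) (hn : NonLoc P (CZ (S : Subgroup G)))
    (hv : ¬ zl (S : Subgroup G) P ≤ VB (S : Subgroup G)) :
    ∃ n, lev (S : Subgroup G) n ≤ o2 P ∧ ¬ lev (S : Subgroup G) (n + 1) ≤ o2 P ∧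
      ∃ A ∈ BO (S : Subgroup G) (lev (S : Subgroup G) n), ¬ A ≤ o2 P := by
  rcases exists_lev h.ctx.char2 hP hv with h1 | h1
  · exact absurd (h.jle P hP hn) h1
  · exact h1

theorem HypC.ffMod (h : HypC S) (hP : IsParS (S : Subgroup G) P) (hn : NonLoc P (CZ (S : Subgroup G)))
    (hv : ¬ zl (S : Subgroup G) P ≤ VB (S : Subgroup G)) : FFMod (S : Subgroup G) P := by
  obtain ⟨n, h1, -, A, hA, hAQ⟩ := HypC.exists_BO h hP hn hv
  exact ffMod_of_BO h.ctx.char2 hP (lev_isLev _ n) h1 hA hAQ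

end

theorem notFF_of (h2 : Gamma K) : NotFF K := by
  intro G _ _ hK S h hff
  refine h2 G hK S h fun P hP hn => ?_
  by_contra hv
  exact hff P hP hn (HypC.ffMod h hP hn hv)

theorem ffJ_of (h1 : FFBeta K) (h2 : Gamma K) : FFJ K := fun G _ _ hK S _ h _ _ _ => jc_of h1 h2 G hK S h

end Cfsg.Agent.Omega.NO3S.Level

end

-- merged: Cfsg.Agent.Mrg.Omega.NO3S.Fld.NS
section

section


/-!
# Fld: LEMMA U for `P`, and (NS) `N_G(B) ≤ N_G(V)` (TEXT 973-2, (3))

* `NSIn S P M A` : the hypotheses (any level);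
* `NSIn.le_zl_of` : `E ≤ O₂(P)` elementary abelian, `[E, E^g] = 1` for `g ∈ P`, `[E, O₂(P)] ≤ R`, no over-offender of `O₂(P)`
  on `E`, `A` an offender on `V ⟨E^P⟩` ⟹ `E ≤ V_P`;
* `norm_B_le_R'` : `N_G(B) ≤ N_G(R)`; **`NSIn.norm_B_le_V`** : `N_G(B) ≤ N_G(V_P)`;
* `nsIn_J` : the instance for `HypJ S P`, `norm_B_le_V` : (NS) for `HypJ S P`.
-/

set_option autoImplicit false
set_option linter.unusedSectionVars false
set_option linter.unusedVariables false

namespace Cfsg.Agent.Omega.NO3S.Fld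

open Subgroup Cfsg Cfsg.Agent.ZN Cfsg.Agent.ZN.ChoiceBase Cfsg.Agent.Omega.MinPar
open Cfsg.Agent.Omega.NO3b.Ineq
open Cfsg.Agent.Omega.SQ1.Bau (elem_comm elem_sq mem_sup_norm)
open Cfsg.Agent.PLocal.ElemAbSup Cfsg.Agent.PLocal.ThompsonJ
open Cfsg.Agent.Omega.NatPair (ext2 ap ap_zero' ap_one')
open Cfsg.Agent.Lib.SL2Mat

universe u

variable {G : Type u} [Group G] [Finite G] {S : Sylow 2 G} {P : Subgroup G}
variable {F : Type*} [Field F] [Finite F] [CharP F 2]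

theorem elem_iff {D : Subgroup G} : IsElementaryAbelian 2 D ↔ LemU.El D := by
  rw [isElementaryAbelian_iff]
  constructor
  · rintro ⟨h1, h2⟩
    exact ⟨h1, fun a ha => by rw [← pow_two]; exact h2 a ha⟩
  · rintro ⟨h1, h2⟩
    exact ⟨h1, fun a ha => by rw [pow_two]; exact h2 a ha⟩

/-- **The hypotheses of (NS)**, `A` a best offender in `B` which is not in `O₂(P)`. -/
structure NSIn (S : Sylow 2 G) (P : Subgroup G) (M : Crd F (S : Subgroup G) P (zl (S : Subgroup G) P))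
    (A : Subgroup G) : Prop where
  char2 : IsCharacteristicTwoType G
  star : IsParS (S : Subgroup G) P
  zo : zc (o2 P) = zl (S : Subgroup G) P
  AB : A ≤ M.B
  sup : A ⊔ o2 P = M.B
  no : FFThm.NoOverM (zl (S : Subgroup G) P) P
  noff : ∀ g : G, zl (S : Subgroup G) P ≤ cj g P → cj g (zl (S : Subgroup G) P) ≤ P →
      zl (S : Subgroup G) P ≤ centralizer ((cj g (zl (S : Subgroup G) P) : Subgroup G) : Set G)
  off : ∀ n ∈ normalizer (M.B : Set G), cj n (zl (S : Subgroup G) P) ≤ o2 P →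
      LemU.El (LemU.UU P (zl (S : Subgroup G) P) (cj n (zl (S : Subgroup G) P))) →
      LemU.ElM (LemU.UU P (zl (S : Subgroup G) P) (cj n (zl (S : Subgroup G) P))) A ∧
      cidx (LemU.UU P (zl (S : Subgroup G) P) (cj n (zl (S : Subgroup G) P))) A ≤
        cidx A (LemU.UU P (zl (S : Subgroup G) P) (cj n (zl (S : Subgroup G) P)))

/-- `V ⟨E^P⟩` is elementary abelian -/
theorem uu_el {P Q V E : Subgroup G} (Qn : P ≤ normalizer (Q : Set G)) (Vel : LemU.El V)
    (QV : Q ≤ centralizer (V : Set G)) (EQ : E ≤ Q) (Eel : LemU.El E)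
    (EE : ∀ g ∈ P, ∀ x ∈ E, ∀ y ∈ E, x * (g * y * g⁻¹) = g * y * g⁻¹ * x) : LemU.El (LemU.UU P V E) := by
  have hfam : ∀ L ∈ LemU.Fam P V E, ∀ L' ∈ LemU.Fam P V E, ∀ x ∈ L, ∀ y ∈ L', x * y = y * x := by
    have hEg : ∀ g ∈ P, ∀ x ∈ PT.cj g E, x ∈ Q := by
      intro g hg x hx
      have h1 := (mem_normalizer_iff.1 (Qn hg) _).1 (EQ (PT.mem_cj.1 hx))
      have e : g * (g⁻¹ * x * g) * g⁻¹ = x := by group
      rwa [e] at h1
    rintro L (rfl | ⟨g, hg, rfl⟩) L' (rfl | ⟨g', hg', rfl⟩) x hx y hy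
    · exact Vel.1 x hx y hy
    · exact mem_centralizer_iff.1 (QV (hEg g' hg' y hy)) x hx
    · exact (mem_centralizer_iff.1 (QV (hEg g hg x hx)) y hy).symm
    · have h1 := EE (g'⁻¹ * g) (mul_mem (inv_mem hg') hg) _ (PT.mem_cj.1 hy) _ (PT.mem_cj.1 hx)
      have h2 := congrArg (fun t => g' * t * g'⁻¹) h1
      have e1 : g' * (g'⁻¹ * y * g' * (g'⁻¹ * g * (g⁻¹ * x * g) * (g'⁻¹ * g)⁻¹)) * g'⁻¹ = y * x := by group
      have e2 : g' * (g'⁻¹ * g * (g⁻¹ * x * g) * (g'⁻¹ * g)⁻¹ * (g'⁻¹ * y * g')) * g'⁻¹ = x * y := by group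
      simp only [e1, e2] at h2
      exact h2.symm
  have hc : ∀ x ∈ LemU.UU P V E, ∀ y ∈ LemU.UU P V E, x * y = y * x := by
    have h1 : LemU.UU P V E ≤ centralizer ((LemU.UU P V E : Subgroup G) : Set G) := by
      refine sSup_le fun L hL => ?_
      rw [Subgroup.le_centralizer_iff]
      exact sSup_le fun L' hL' x hx => mem_centralizer_iff.2 fun y hy => hfam L hL L' hL' y hy x hx
    exact fun x hx y hy => (mem_centralizer_iff.1 (h1 hx) y hy).symm
  refine ⟨hc, ?_⟩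
  let T : Subgroup G :=
    { carrier := {x | x ∈ LemU.UU P V E ∧ x * x = 1}
      one_mem' := ⟨one_mem _, one_mul 1⟩
      mul_mem' := by
        rintro x y ⟨hx, hx2⟩ ⟨hy, hy2⟩
        refine ⟨mul_mem hx hy, ?_⟩
        have h1 := hc y hy x hx
        calc x * y * (x * y) = x * (y * x) * y := by group
          _ = x * (x * y) * y := by rw [h1]
          _ = x * x * (y * y) := by group
          _ = 1 := by rw [hx2, hy2, one_mul]
      inv_mem' := by
        rintro x ⟨hx, hx2⟩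
        refine ⟨inv_mem hx, ?_⟩
        rw [← mul_inv_rev, hx2, inv_one] }
  have h1 : LemU.UU P V E ≤ T := by
    refine sSup_le ?_
    rintro L (rfl | ⟨g, hg, rfl⟩) x hx
    · exact ⟨(le_sSup (Or.inl rfl) : _ ≤ LemU.UU P _ E) hx, Vel.2 x hx⟩
    · refine ⟨(le_sSup (Or.inr ⟨g, hg, rfl⟩) : _ ≤ LemU.UU P V E) hx, ?_⟩
      have h2 := congrArg (fun t => g * t * g⁻¹) (Eel.2 _ (PT.mem_cj.1 hx))
      simpa [mul_assoc] using h2
  exact fun u hu => (h1 hu).2

namespace NSIn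

variable {M : Crd F (S : Subgroup G) P (zl (S : Subgroup G) P)} {A : Subgroup G}

/-- **LEMMA U for `P`.** -/
theorem le_zl_of (h : NSIn S P M A) {E : Subgroup G}
    (hEQ : E ≤ o2 P) (hE : LemU.El E)
    (hEE : ∀ g ∈ P, ∀ x ∈ E, ∀ y ∈ E, x * (g * y * g⁻¹) = g * y * g⁻¹ * x)
    (hER : ∀ x ∈ E, ∀ t ∈ o2 P, t * x * t⁻¹ * x⁻¹ ∈ M.R)
    (hel : LemU.ElM (LemU.UU P (zl (S : Subgroup G) P) E) A)
    (hoff : cidx (LemU.UU P (zl (S : Subgroup G) P) E) A ≤ cidx A (LemU.UU P (zl (S : Subgroup G) P) E))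
    (hno : ∀ K : Subgroup G, K ≤ o2 P → LemU.ElM E K → cidx K E ≤ cidx E K) :
    E ≤ zl (S : Subgroup G) P := by
  have hG := h.char2
  have hb := br_of hG h.star M
  have hAB := h.AB
  have hAB' : A ≤ M.B := hAB
  have hQS : o2 P ≤ (S : Subgroup G) := hb.QB.trans hb.BS
  have hVQ : zl (S : Subgroup G) P ≤ o2 P := BR.zl_le_o2 hG hb
  have hsup := h.sup
  have hAn : A ≤ normalizer (o2 P : Set G) := hAB.trans (BR.B_norm hb)
  have hact : ∀ a ∈ A, ∃ t : F, ∀ x, a * M.e x * a⁻¹ = M.e ![x 0 + t * x 1, x 1] := by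
    intro a ha
    obtain ⟨c, hc⟩ := M.exists_root (hAB' ha).1 (hAB' ha).2
    exact ⟨c, fun x => hc x⟩
  have hfull : ∀ t : F, ∃ a ∈ A, ∀ x, a * M.e x * a⁻¹ = M.e ![x 0 + t * x 1, x 1] := by
    intro t
    obtain ⟨s, hs, hsR, hst⟩ := M.exists_full t
    have hsB : s ∈ A ⊔ o2 P := by rw [hsup]; exact ⟨hs, hsR⟩
    obtain ⟨a, ha, y, hy, rfl⟩ := mem_sup_norm hAn hsB
    refine ⟨a, ha, fun x => ?_⟩
    have h1 := hst x
    have h2 : y * M.e x = M.e x * y := BR.comm_o2 hG hb y hy _ (M.e_mem x)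
    have e : a * y * M.e x * (a * y)⁻¹ = a * (y * M.e x) * y⁻¹ * a⁻¹ := by group
    rw [e, h2] at h1
    have e2 : a * (M.e x * y) * y⁻¹ * a⁻¹ = a * M.e x * a⁻¹ := by group
    rw [e2] at h1
    exact h1
  have key : LemU.Hyp P (o2 P) (zl (S : Subgroup G) P) A E M.e :=
    { QP := o2_le P
      Qn := MinSimple.VModule.le_normalizer_o2 P
      Vn := MinSimple.VModule.le_normalizer_zl _ _
      VQ := hVQ
      QV := fun t ht => mem_centralizer_iff.2 fun v hv => (BR.comm_o2 hG hb t ht v hv).symm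
      e_add := M.e_add
      e_inj := M.e_inj
      mem_iff := M.mem_iff
      Vsq := fun v hv => M.sq hv
      AP := hAB.trans (hb.BS.trans hb.star.le)
      Ael := hel
      off := hoff
      act := hact
      full := hfull
      AQ := by
        rw [← IsParS.inf_centralizer S hG h.star]
        exact inf_le_inf_right _ (hAB.trans hb.BS)
      swap := by
        obtain ⟨w, hw, h1⟩ := M.lift (wm 1 one_ne_zero)
        refine ⟨w, hw, fun x => ?_⟩
        rw [h1]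
        congr 1
        apply ext2
        · rw [ap_zero', wm_00, wm_01, zero_mul, zero_add, one_mul]; rfl
        · rw [ap_one', wm_10, wm_11, zero_mul, add_zero, inv_one, CharTwo.neg_eq, one_mul]; rfl
      EQ := hEQ
      Eel := hE
      EE := hEE
      ER := by
        intro x hx t ht
        obtain ⟨a, ha⟩ := hER x hx t ht
        exact ⟨a, ha.symm⟩
      no := hno }
  intro x hx
  rw [← h.zo]
  exact mem_zc.2 ⟨hEQ hx, by rw [pow_two]; exact hE.2 x hx, fun t ht => key.lemU x hx t ht⟩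

end NSIn

/-- `N_G(B) ≤ N_G(R)` -/
theorem norm_B_le_R' (hG : IsCharacteristicTwoType G) (hP : IsParS (S : Subgroup G) P)
    (M : Crd F (S : Subgroup G) P (zl (S : Subgroup G) P)) {n : G}
    (hn : n ∈ normalizer (M.B : Set G)) : n ∈ normalizer (M.R : Set G) := by
  have hb := br_of hG hP M
  have hVS : zl (S : Subgroup G) P ≤ (S : Subgroup G) := (BR.zl_le_o2 hG hb).trans (hb.QB.trans hb.BS)
  have hB := M.mem_R_of_cent S.isPGroup' hVS (MinSimple.VModule.zc_le_zl _ _)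
  have hRB : M.R ≤ M.B := fun r hr => hb.QB (BR.zl_le_o2 hG hb (hb.RV hr))
  apply mem_normalizer_of_cj_le
  intro x hx
  have hx' := mem_cj.1 hx
  have e : n * (n⁻¹ * x * n) * n⁻¹ = x := by group
  refine hB x ?_ ?_ fun b hbb => ?_
  · have h1 := (mem_normalizer_iff.1 hn _).1 (hRB hx')
    rwa [e] at h1
  · have h1 := congrArg (fun t => n * t * n⁻¹) (M.sq (M.R_le hx'))
    have e1 : n * (n⁻¹ * x * n * (n⁻¹ * x * n)) * n⁻¹ = x ^ 2 := by rw [pow_two]; group
    simp only [e1, mul_one, mul_inv_cancel] at h1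
    exact h1
  · have h1 : n⁻¹ * b * n ∈ M.B := by
      have := (mem_normalizer_iff.1 (inv_mem hn) b).1 hbb
      rwa [inv_inv] at this
    have h2 := congrArg (fun t => n * t * n⁻¹) (hb.cB _ h1 _ hx')
    have e1 : n * (n⁻¹ * b * n * (n⁻¹ * x * n)) * n⁻¹ = b * x := by group
    have e2 : n * (n⁻¹ * x * n * (n⁻¹ * b * n)) * n⁻¹ = x * b := by group
    simp only [e1, e2] at h2
    exact h2

/-- **(NS)** `N_G(B) ≤ N_G(V)` -/
theorem NSIn.norm_B_le_V {M : Crd F (S : Subgroup G) P (zl (S : Subgroup G) P)} {A : Subgroup G}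
    (h : NSIn S P M A) : normalizer (M.B : Set G) ≤ normalizer (zl (S : Subgroup G) P : Set G) := by
  intro n hn
  have hG := h.char2
  have hb := br_of hG h.star M
  have hPV : P ≤ normalizer (zl (S : Subgroup G) P : Set G) := MinSimple.VModule.le_normalizer_zl _ _
  have hPQ : P ≤ normalizer (o2 P : Set G) := MinSimple.VModule.le_normalizer_o2 P
  have hBP : M.B ≤ P := hb.BS.trans h.star.isLoc.le
  have hVB : zl (S : Subgroup G) P ≤ M.B := (BR.zl_le_o2 hG hb).trans hb.QB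
  have hnB : cj n M.B = M.B := cj_eq_of_mem_normalizer hn
  have hnR := norm_B_le_R' hG h.star M hn
  set E : Subgroup G := cj n (zl (S : Subgroup G) P) with hE
  have hEB : E ≤ M.B := by rw [← hnB]; exact cj_mono n hVB
  -- NOFF
  have noff := h.noff
  have hEQ : E ≤ o2 P := by
    rw [← IsParS.inf_centralizer S hG h.star]
    refine le_inf (hEB.trans hb.BS) ?_
    rw [Subgroup.le_centralizer_iff]
    refine noff n ?_ (hEB.trans hBP)
    refine hVB.trans ?_
    rw [← hnB]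
    exact cj_mono n hBP
  have hVel := BR.zl_elem hG hb
  have hEel : IsElementaryAbelian 2 E := isElementaryAbelian_cj n hVel
  -- `[E, E^g] = 1`
  have hEE : ∀ g ∈ P, ∀ x ∈ E, ∀ y ∈ E, x * (g * y * g⁻¹) = g * y * g⁻¹ * x := by
    intro g hg x hx y hy
    have hQg : cj g (o2 P) = o2 P := cj_eq_of_mem_normalizer (hPQ hg)
    have h1 : zl (S : Subgroup G) P ≤ cj (n⁻¹ * g * n) P := by
      have h2 : E ≤ cj g M.B := by
        refine hEQ.trans ?_
        rw [← hQg]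
        exact cj_mono g hb.QB
      have h3 : cj n⁻¹ E ≤ cj n⁻¹ (cj g M.B) := cj_mono n⁻¹ h2
      rw [hE, cj_inv_cj] at h3
      refine h3.trans ?_
      rw [← hnB, cj_cj, cj_cj]
      exact cj_mono _ hBP
    have h2 : cj (n⁻¹ * g * n) (zl (S : Subgroup G) P) ≤ P := by
      have h3 : cj g E ≤ M.B := by
        have := cj_mono g hEQ
        rw [hQg] at this
        exact this.trans hb.QB
      have h4 : cj n⁻¹ (cj g E) ≤ cj n⁻¹ M.B := cj_mono n⁻¹ h3
      have h5 : cj n⁻¹ M.B = M.B := cj_eq_of_mem_normalizer (inv_mem hn)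
      rw [h5, hE, cj_cj, cj_cj] at h4
      exact h4.trans hBP
    have h3 := noff _ h1 h2
    have hx' := mem_cj.1 hx
    have hy' := mem_cj.1 hy
    have h4 := mem_centralizer_iff.1 (h3 hx') (n⁻¹ * (g * y * g⁻¹) * n) (mem_cj.2 (by
      have e : (n⁻¹ * g * n)⁻¹ * (n⁻¹ * (g * y * g⁻¹) * n) * (n⁻¹ * g * n) = n⁻¹ * y * n := by group
      rw [e]; exact hy'))
    have h5 := congrArg (fun t => n * t * n⁻¹) h4
    have e1 : n * (n⁻¹ * (g * y * g⁻¹) * n * (n⁻¹ * x * n)) * n⁻¹ = g * y * g⁻¹ * x := by group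
    have e2 : n * (n⁻¹ * x * n * (n⁻¹ * (g * y * g⁻¹) * n)) * n⁻¹ = x * (g * y * g⁻¹) := by group
    simp only [e1, e2] at h5
    exact h5.symm
  have hUel := uu_el hPQ (elem_iff.1 hVel)
    (fun t ht => mem_centralizer_iff.2 fun v hv => (BR.comm_o2 hG hb t ht v hv).symm) hEQ (elem_iff.1 hEel) hEE
  obtain ⟨hel, hoff⟩ := h.off n hn hEQ hUel
  have hle : E ≤ zl (S : Subgroup G) P := by
    refine h.le_zl_of hEQ (elem_iff.1 hEel) hEE ?_ hel hoff ?_
    · -- `[E, B] ≤ R`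
      intro x hx t ht
      have hx' := mem_cj.1 hx
      have ht' : n⁻¹ * t * n ∈ M.B := by
        have := (mem_normalizer_iff.1 (inv_mem hn) t).1 (hb.QB ht)
        rwa [inv_inv] at this
      have h1 := hb.comm _ ht' _ hx'
      have h2 := (mem_normalizer_iff.1 hnR _).1 h1
      have e : n * (n⁻¹ * t * n * (n⁻¹ * x * n) * (n⁻¹ * t * n)⁻¹ * (n⁻¹ * x * n)⁻¹) * n⁻¹ = t * x * t⁻¹ * x⁻¹ := by
        group
      rwa [e] at h2
    · -- NOOVER
      intro K hK hKe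
      have hKB : cj n⁻¹ K ≤ P := by
        have h5 : cj n⁻¹ M.B = M.B := cj_eq_of_mem_normalizer (inv_mem hn)
        exact (cj_mono n⁻¹ (hK.trans hb.QB)).trans (h5.le.trans hBP)
      have hEV : cj n⁻¹ E = zl (S : Subgroup G) P := by rw [hE, cj_inv_cj]
      have hcen : ∀ x : G, x ∈ centralizer (E : Set G) → n⁻¹ * x * n ∈ centralizer (zl (S : Subgroup G) P : Set G) := by
        intro x hx
        have h1 : n⁻¹ * x * n ∈ cj n⁻¹ (centralizer (E : Set G)) := by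
          rw [mem_cj]
          have e : n⁻¹⁻¹ * (n⁻¹ * x * n) * n⁻¹ = x := by group
          rw [e]; exact hx
        rwa [cj_centralizer, hEV] at h1
      have hKel : FFThm.ElemM (zl (S : Subgroup G) P) (cj n⁻¹ K) := by
        refine ⟨fun a ha => ?_, fun a ha b hb' => ?_⟩
        · have h1 := hcen _ (hKe.2 _ (mem_cj.1 ha))
          have e : n⁻¹ * (n⁻¹⁻¹ * a * n⁻¹ * (n⁻¹⁻¹ * a * n⁻¹)) * n = a ^ 2 := by rw [pow_two]; group
          rwa [e] at h1
        · have h1 := hcen _ (hKe.1 _ (mem_cj.1 ha) _ (mem_cj.1 hb'))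
          have e : n⁻¹ * (n⁻¹⁻¹ * a * n⁻¹ * (n⁻¹⁻¹ * b * n⁻¹) * (n⁻¹⁻¹ * a * n⁻¹)⁻¹ * (n⁻¹⁻¹ * b * n⁻¹)⁻¹) * n =
            a * b * a⁻¹ * b⁻¹ := by group
          rwa [e] at h1
      have h1 := h.no (cj n⁻¹ K) hKB hKel
      have h2 := FFThm.relIndex_le_iff.1 h1
      have key : ∀ X Y : Subgroup G, cidx (cj n X) (cj n Y) = cidx X Y := by
        intro X Y
        rw [cidx, cidx, ← cj_centralizer]
        exact relIndex_map_map_of_injective (f := (MulAut.conj n).toMonoidHom) (centralizer (Y : Set G)) X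
          (MulAut.conj n).injective
      have h3 : cidx (cj n⁻¹ K) (zl (S : Subgroup G) P) ≤ cidx (zl (S : Subgroup G) P) (cj n⁻¹ K) := h2
      rw [← key, ← key (zl (S : Subgroup G) P), cj_cj_inv] at h3
      exact h3
  have heq : E = zl (S : Subgroup G) P := by
    refine Subgroup.eq_of_le_of_card_ge hle ?_
    rw [hE, card_cj]
  rw [mem_normalizer_iff_cj]
  exact heq

/-- The instance for `HypJ` -/
theorem nsIn_J (h : HypJ S P) (M : Crd F (S : Subgroup G) P (zl (S : Subgroup G) P)) : ∃ A, NSIn S P M A := by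
  obtain ⟨hb, hzo, hzj⟩ := HypJ.facts M h
  have hG := h.ctx.char2
  obtain ⟨A, hA, hAQ⟩ := exists_AA' h.jnot
  have hQS : o2 P ≤ (S : Subgroup G) := hb.QB.trans hb.BS
  refine ⟨A,
    { char2 := hG
      star := h.star
      zo := hzo
      AB := hb.AB A hA
      sup := BR.sup_eq hG hb hA hAQ
      no := (h.toHyp.ff FF.Glob.ffthmM h.ffMod).1
      noff := fun g h1 h2 => h.toHyp.geo.noff P (Set.mem_singleton P) P (Set.mem_singleton P) g h1 h2
      off := fun n hn hEQ hU => ?_ }⟩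
  have Ael := elem_iff.1 hA.1
  refine ⟨Ael.elM _, LemU.off_of_max (Q := o2 P) hU ?_ Ael ?_ fun D hD hDe => hA.2.2 D (elem_iff.2 hDe) (hD.trans hQS)⟩
  · refine sSup_le ?_
    rintro L (rfl | ⟨g, hg, rfl⟩)
    · exact BR.zl_le_o2 hG hb
    · have h1 := cj_mono g hEQ
      rwa [cj_eq_of_mem_normalizer (MinSimple.VModule.le_normalizer_o2 P hg)] at h1
  · rw [← IsParS.inf_centralizer S hG h.star]
    refine inf_le_inf hA.2.1 (centralizer_le ?_)
    exact (le_sSup (Or.inl rfl) : _ ≤ LemU.UU P _ _)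

/-- **(NS)** for `HypJ` -/
theorem norm_B_le_V (h : HypJ S P) (M : Crd F (S : Subgroup G) P (zl (S : Subgroup G) P)) :
    normalizer (M.B : Set G) ≤ normalizer (zl (S : Subgroup G) P : Set G) := by
  obtain ⟨A, hA⟩ := nsIn_J h M
  exact hA.norm_B_le_V

end Cfsg.Agent.Omega.NO3S.Fld

end

section


/-!
# Fld: the geometry with the points `R^g` and `C = N_G(R)`

* `PB.geo`, `PB.exists_crit` : for `Hyp S P` and `PB S B P V_P R`: the geometry `Geo B R (N_G(R)) {P}` and a critical pair;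
* `geoR` : the same from `Hyp S P` and adapted coordinates;
* `wcomm_of` : the field `Wcomm` of `PB` from the other ones and `Geo`.
-/

set_option autoImplicit false
set_option linter.unusedSectionVars false
set_option linter.unusedVariables false

namespace Cfsg.Agent.Omega.NO3S

open Subgroup Cfsg Cfsg.Agent.ZN Cfsg.Agent.Omega.MinPar Cfsg.Agent.Omega.Frame Cfsg.Agent.Omega.FrameNOFF
open Cfsg.Agent.Omega.NoFF.Lines Cfsg.Agent.Omega.NoFF.Basic
open scoped Pointwise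

universe u

variable {G : Type u} [Group G] [Finite G] {S : Sylow 2 G} {P B R : Subgroup G}

namespace PT

section raw

variable {V Z : Subgroup G} (SN : (S : Subgroup G) ≤ normalizer (Z : Set G))
  (ti : ∀ z ∈ Z, z ≠ 1 → ∀ g : G, g * z = z * g → g ∈ normalizer (Z : Set G))
  (NS : normalizer ((S : Subgroup G) : Set G) ≤ normalizer (Z : Set G))
  (tor : ∀ z ∈ Z, z ≠ 1 → ∃ k ∈ P, k ∈ normalizer (Z : Set G) ∧ ∀ s ∈ (S : Subgroup G), s * (k * z * k⁻¹) = k * z * k⁻¹ * s)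
include SN ti NS tor

/-- (T2) from the raw hypotheses -/
theorem pt_eq_raw {g z : G} (hz : z ∈ Z) (hz' : z ∈ cj g Z) (hz1 : z ≠ 1) : cj g Z = Z := by
  obtain ⟨k, hk, hkZ, hks⟩ := tor z hz hz1
  have hT : ((k⁻¹ • S : Sylow 2 G) : Subgroup G) ≤ normalizer ((cj g Z : Subgroup G) : Set G) := by
    intro s hs
    have h1 := hks _ (mem_cj.1 hs)
    have h2 := congrArg (fun t => k⁻¹ * t * k) h1
    have h3 : s * z = z * s := by simpa [mul_assoc] using h2
    rw [← cj_normalizer, mem_cj]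
    refine ti _ (mem_cj.1 hz') (fun e => hz1 ?_) _ ?_
    · have h2 := congrArg (fun t => g * t * g⁻¹) e
      simpa [mul_assoc] using h2
    · have h2 := congrArg (fun t => g⁻¹ * t * g) h3
      simpa [mul_assoc] using h2
  have h2 : ((g • S : Sylow 2 G) : Subgroup G) ≤ normalizer ((cj g Z : Subgroup G) : Set G) := by
    rw [coe_smul, ← cj_normalizer]
    exact cj_le_cj.2 SN
  obtain ⟨m, hm, hmS⟩ := exists_conj h2 hT
  have hn : k * m * g ∈ normalizer ((S : Subgroup G) : Set G) := by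
    rw [← cj_eq_iff]
    have e1 : cj m (cj g (S : Subgroup G)) = cj k⁻¹ (S : Subgroup G) := hmS
    rw [mul_assoc, ← cj_cj, ← cj_cj, e1, cj_cj, mul_inv_cancel, cj_one]
  have h3 := cj_eq_iff.2 (NS hn)
  rw [mul_assoc, ← cj_cj, ← cj_cj, cj_eq_iff.2 hm] at h3
  have h4 : cj g Z = cj k⁻¹ Z := by
    rw [← cj_inj (g := k), h3, cj_cj, mul_inv_cancel, cj_one]
  rw [h4, cj_eq_iff]
  exact inv_mem hkZ

/-- the lines on the point `Z` are the `N_G(Z)`-conjugates of `V` -/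
theorem exists_norm_raw (Zne : Z ≠ ⊥) (PN : P ≤ normalizer (V : Set G))
    (part : ∀ v ∈ V, v ≠ 1 → ∃ p ∈ P, v ∈ cj p Z) {L : Subgroup G} (hL : IsCj V L) (hZL : Z ≤ L) :
    ∃ c ∈ normalizer (Z : Set G), L = cj c V := by
  obtain ⟨g, rfl⟩ := hL
  obtain ⟨z, hz, hz1⟩ : ∃ z ∈ Z, z ≠ 1 := by
    by_contra hcon
    push Not at hcon
    exact Zne ((eq_bot_iff_forall _).2 hcon)
  obtain ⟨p, hp, hzp⟩ := part _ (mem_cj.1 (hZL hz)) (fun e => hz1 (by
    have h2 := congrArg (fun t => g * t * g⁻¹) e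
    simpa [mul_assoc] using h2))
  have h1 : z ∈ cj (g * p) Z := by
    rw [← cj_cj, mem_cj]
    exact hzp
  have h2 := pt_eq_raw SN ti NS tor hz h1 hz1
  refine ⟨g * p, cj_eq_iff.1 h2, ?_⟩
  rw [← cj_cj, cj_eq_iff.2 (PN hp)]

/-- the field `Wcomm` -/
theorem wcomm_of (Zne : Z ≠ ⊥) (PN : P ≤ normalizer (V : Set G))
    (part : ∀ v ∈ V, v ≠ 1 → ∃ p ∈ P, v ∈ cj p Z) (geo : Geo B Z (normalizer (Z : Set G)) {P})
    (hV : NoFF.Basic.V Z P = V) : ws V Z ≤ centralizer ((ws V Z : Subgroup G) : Set G) := by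
  have h1 : ws V Z ≤ W Z (normalizer (Z : Set G)) {P} := by
    refine ws_le fun L hL hZL => ?_
    obtain ⟨c, hc, rfl⟩ := exists_norm_raw SN ti NS tor Zne PN part hL hZL
    have h2 := line_le (Z := Z) (C := normalizer (Z : Set G)) (F := {P}) (Set.mem_singleton P) hc
    rwa [hV] at h2
  exact comm_mono geo.W_comm h1 h1

end raw

namespace PB

theorem V_eq {V Z : Subgroup G} (h : PB S B P V Z) : NoFF.Basic.V Z P = V := by
  apply le_antisymm
  · refine iSup_le fun p => ?_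
    have h1 := cj_le_cj (g := (p : G)).2 h.ZV
    rwa [cj_eq_iff.2 (h.PN p.2)] at h1
  · intro v hv
    by_cases hv1 : v = 1
    · rw [hv1]; exact one_mem _
    · obtain ⟨p, hp, hvp⟩ := h.part v hv hv1
      exact (le_iSup (fun p : P => MulAut.conj (p : G) • Z) ⟨p, hp⟩) hvp

variable (hp : Hyp S P) (h : PB S B P (zl (S : Subgroup G) P) R)
include hp h

/-- **The geometry of the points `R^g`.** -/
theorem geo : Geo B R (normalizer (R : Set G)) {P} where
  ZS := h.ZV.trans h.VB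
  cent := h.B_le
  SP := by rintro Q rfl; exact h.BP
  abel := by
    rintro Q rfl
    rw [h.V_eq]
    exact fun v hv => mem_centralizer_iff.2 fun w hw => h.Vcomm hw hv
  core := by
    rintro Q rfl p hpp x hx hxc
    rw [h.V_eq] at hxc
    have h1 : x ∈ o2 Q := by
      rw [← hp.inf_centralizer]
      exact ⟨h.BS hx, hxc⟩
    have h2 : o2 Q ≤ B := by
      rw [← hp.inf_centralizer]
      rintro y ⟨hy, hyc⟩
      exact h.mem_B y hy fun z hz => (mem_centralizer_iff.1 hyc z (h.ZV hz)).symm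
    have h3 : cj p (o2 Q) = o2 Q := cj_eq_iff.2 (MinSimple.VModule.le_normalizer_o2 Q hpp)
    rw [← h3] at h1
    exact cj_le_cj.2 h2 h1
  noff := by
    rintro Q rfl Q' rfl g h1 h2
    rw [h.V_eq] at h1 h2 ⊢
    exact hp.geo.noff _ (Set.mem_singleton _) _ (Set.mem_singleton _) g h1 h2
  CZ := le_rfl
  cen := centralizer_le_normalizer _
  low := by
    rintro Q rfl c hc
    rw [h.V_eq]
    have h1 : cj c⁻¹ (zl (S : Subgroup G) Q) ≤ ws (zl (S : Subgroup G) Q) R := by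
      refine le_ws ⟨c⁻¹, rfl⟩ ?_
      rw [← cj_eq_iff.2 (inv_mem hc)]
      exact cj_le_cj.2 h.ZV
    have h2 := h1.trans h.ws_le_B
    rwa [cj_le_iff, inv_inv] at h2
  Zsq := fun z hz => by rw [pow_two]; exact h.Vsq z (h.ZV hz)

/-- `Ω₁(Z(S)) ≤ R` -/
theorem zc_le_R : zc (S : Subgroup G) ≤ R := by
  intro z hz
  have h1 := ChoiceBase.mem_zc.1 hz
  have h2 : z ∈ B := h.mem_B z h1.1 fun r hr => by
    exact (h1.2.2 r (h.VS (h.ZV hr))).symm
  exact h.omega z h2 (by rw [← pow_two]; exact h1.2.1) fun s hs => h1.2.2 s (h.BS hs)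

theorem CZ_le : CZ (S : Subgroup G) ≤ normalizer (R : Set G) := by
  obtain ⟨z, hz, hz1⟩ : ∃ z ∈ zc (S : Subgroup G), z ≠ 1 := by
    obtain ⟨z, hz1⟩ := Subgroup.ne_bot_iff_exists_ne_one.1 hp.zc_ne
    exact ⟨z, z.2, fun h => hz1 (Subtype.ext h)⟩
  intro g hg
  exact h.ti z (h.zc_le_R hp hz) hz1 g (mem_centralizer_iff.1 hg z hz).symm

/-- There is a critical pair of points `R^g`. -/
theorem exists_crit : ∃ n, 1 ≤ n ∧ ∃ y, Crit R (normalizer (R : Set G)) {P} n 1 y :=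
  (h.geo hp).exists_crit (Set.singleton_nonempty P) h.Zne
    fun _ hU h1 h3 => hp.nonLoc _ hU (h1 P rfl) ((h.CZ_le hp).trans h3)

end PB

end PT

namespace Fld

open Cfsg.Agent.Omega.NO3S.PT

variable {F : Type*} [Field F] [Finite F] [CharP F 2]

/-- `⟨R^P⟩ = V` -/
theorem V_R_eq (h : Hyp S P) (M : Crd F (S : Subgroup G) P (zl (S : Subgroup G) P)) :
    NoFF.Basic.V M.R P = zl (S : Subgroup G) P := by
  have hb := br_of h.ctx.char2 h.star M
  have hG := h.ctx.char2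
  have hVS : zl (S : Subgroup G) P ≤ (S : Subgroup G) := (BR.zl_le_o2 hG hb).trans (hb.QB.trans hb.BS)
  have hPV : P ≤ normalizer (zl (S : Subgroup G) P : Set G) := MinSimple.VModule.le_normalizer_zl _ _
  have hZR : zc (S : Subgroup G) ≤ M.R := by
    rw [M.zc_eq hVS (MinSimple.VModule.zc_le_zl _ _)]
    exact inf_le_left
  apply le_antisymm
  · refine iSup_le fun p => ?_
    have h1 := cj_le_cj (g := (p : G)).2 hb.RV
    rwa [cj_eq_iff.2 (hPV p.2)] at h1
  · have h1 : NoFF.Basic.V (zc (S : Subgroup G)) P ≤ NoFF.Basic.V M.R P :=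
      iSup_mono fun p => cj_le_cj.2 hZR
    exact h1

/-- `V ≤ O₂(C_G(R)) ≤ B` -/
theorem zl_le_o2_centR (h : Hyp S P) (M : Crd F (S : Subgroup G) P (zl (S : Subgroup G) P)) :
    zl (S : Subgroup G) P ≤ o2 (centralizer (M.R : Set G)) ∧ o2 (centralizer (M.R : Set G)) ≤ M.B := by
  have hb := br_of h.ctx.char2 h.star M
  have hG := h.ctx.char2
  have hVS : zl (S : Subgroup G) P ≤ (S : Subgroup G) := (BR.zl_le_o2 hG hb).trans (hb.QB.trans hb.BS)
  have hZR : zc (S : Subgroup G) ≤ M.R := by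
    rw [M.zc_eq hVS (MinSimple.VModule.zc_le_zl _ _)]
    exact inf_le_left
  set K := centralizer (M.R : Set G) with hK
  have hKC : K ≤ CZ (S : Subgroup G) := centralizer_le hZR
  have hVK : zl (S : Subgroup G) P ≤ K := by
    intro v hv
    rw [hK, mem_centralizer_iff]
    exact fun r hr => M.comm (hb.RV hr) hv
  constructor
  · let O : Subgroup G := ⨆ k : K, cj (k : G) (zl (S : Subgroup G) P)
    have hO1 : zl (S : Subgroup G) P ≤ O := by
      have := le_iSup (fun k : K => cj (k : G) (zl (S : Subgroup G) P)) 1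
      rwa [OneMemClass.coe_one, cj_one] at this
    have hOW : O ≤ WW (S : Subgroup G) P := iSup_le fun k => conj_zl_le_WW (hKC k.2)
    have hO2 : IsPGroup 2 O := fun w => ⟨1, Subtype.ext (by simpa using h.W_sq w (hOW w.2))⟩
    have hOK : O ≤ K := iSup_le fun k => by
      have h1 := cj_le_cj (g := (k : G)).2 hVK
      have h2 : cj (k : G) K = K := conj_self k.2
      rwa [h2] at h1
    have hn : K ≤ normalizer (O : Set G) := by
      have key : ∀ g ∈ K, cj g O ≤ O := by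
        intro g hg
        rw [cj_le_iff]
        refine iSup_le fun k => ?_
        rw [le_cj_iff, inv_inv, cj_cj]
        exact le_iSup (fun k : K => cj (k : G) (zl (S : Subgroup G) P)) ⟨g * k, mul_mem hg k.2⟩
      intro g hg
      rw [← cj_eq_iff]
      refine le_antisymm (key g hg) ?_
      rw [le_cj_iff]
      exact key g⁻¹ (inv_mem hg)
    exact hO1.trans (MinSimple.VModule.le_o2 hOK hO2 hn)
  · have hSN : (S : Subgroup G) ≤ normalizer (M.R : Set G) := hb.RS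
    have hsyl : Cfsg.Agent.ZN.ChoiceSit.Syl (S : Subgroup G) (normalizer (M.R : Set G)) :=
      ⟨hSN, S.isPGroup', fun _ _ hT hST => S.is_maximal' hT hST⟩
    have hKN : K ≤ normalizer (M.R : Set G) := centralizer_le_normalizer _
    have hcj : ∀ c ∈ normalizer (M.R : Set G), c ∈ normalizer (o2 K : Set G) := by
      intro c hc
      have h1 : ChoiceBase.cj c K = K := by
        have h2 : cj c K = K := by rw [hK, cj_centralizer, cj_eq_iff.2 hc]
        exact h2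
      rw [ChoiceBase.mem_normalizer_iff_cj, ← Cfsg.Agent.ZN.ChoiceSit.o2_cj, h1]
    have h1 : o2 K ≤ o2 (normalizer (M.R : Set G)) :=
      MinSimple.VModule.le_o2 ((MinSimple.VModule.o2_le K).trans hKN) (Cfsg.Agent.ZN.ChoiceSit.isPGroup_o2 K) hcj
    exact le_inf (h1.trans (Cfsg.Agent.ZN.ChoiceSit.o2_le_syl hsyl)) (MinSimple.VModule.o2_le K)

/-- **The geometry of the points `R^g`** -/
theorem geoR (h : Hyp S P) (M : Crd F (S : Subgroup G) P (zl (S : Subgroup G) P)) :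
    Geo M.B M.R (normalizer (M.R : Set G)) {P} := by
  have hb := br_of h.ctx.char2 h.star M
  have hG := h.ctx.char2
  obtain ⟨hV1, hV2⟩ := zl_le_o2_centR h M
  have hVe := V_R_eq h M
  have hVS : zl (S : Subgroup G) P ≤ (S : Subgroup G) := (BR.zl_le_o2 hG hb).trans (hb.QB.trans hb.BS)
  exact
    { ZS := hb.RV.trans (hV1.trans hV2)
      cent := inf_le_right
      SP := by rintro Q rfl; exact hb.BS.trans hb.star.le
      abel := by
        rintro Q rfl
        rw [hVe]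
        exact fun v hv => mem_centralizer_iff.2 fun w hw => M.comm hw hv
      core := by
        rintro Q rfl p hpp x hx hxc
        rw [hVe] at hxc
        have h1 : x ∈ o2 Q := by
          rw [← h.inf_centralizer]
          exact ⟨hb.BS hx, hxc⟩
        have h3 : cj p (o2 Q) = o2 Q := cj_eq_iff.2 (MinSimple.VModule.le_normalizer_o2 Q hpp)
        rw [← h3] at h1
        exact cj_le_cj.2 hb.QB h1
      noff := by
        rintro Q rfl Q' rfl g h1 h2
        rw [hVe] at h1 h2 ⊢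
        exact h.geo.noff _ (Set.mem_singleton _) _ (Set.mem_singleton _) g h1 h2
      CZ := le_rfl
      cen := centralizer_le_normalizer _
      low := by
        rintro Q rfl c hc
        rw [hVe]
        have h1 : cj c (o2 (centralizer (M.R : Set G))) = o2 (centralizer (M.R : Set G)) := by
          have h2 : ChoiceBase.cj c (centralizer (M.R : Set G)) = centralizer (M.R : Set G) := by
            have h3 : cj c (centralizer (M.R : Set G)) = centralizer (M.R : Set G) := by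
              rw [cj_centralizer, cj_eq_iff.2 hc]
            exact h3
          have h4 : ChoiceBase.cj c (o2 (centralizer (M.R : Set G))) = o2 (centralizer (M.R : Set G)) := by
            rw [← Cfsg.Agent.ZN.ChoiceSit.o2_cj, h2]
          exact h4
        rw [← h1] at hV1
        exact hV1.trans (cj_le_cj.2 hV2)
      Zsq := fun z hz => by rw [pow_two]; exact M.sq (hb.RV hz) }

end Fld

end Cfsg.Agent.Omega.NO3S

end

end

-- merged: Cfsg.Agent.Mrg.Omega.NO3S.ThmB.Main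
section

section


/-!
# THEOREM B: all members of `P*(S)` have at least the stage of `P`

`P ∈ P**` (`⟨P, C_G(Z)⟩` nonlocal), `|Z| = 2` or `V_P` of the types of the FF theorem, `R ∈ P*(S)`, `⟨R, C_G(Z)⟩` local
or `|Z| ≥ 4`: a family of best offenders contained in `O₂(P)` is contained in `O₂(R)`.

* `isLoc_sup` : `⟨P, R⟩` is local for `P, R ∈ P*(S)` (NOFF);
* `sym_zc` : `V_P` of type `S_{2^m+1}^k` gives `|Z| = 2`;
* `no_small` : `|Z| = 2` (torus lemma); `no_big` : `|Z| ≥ 4` (`Nb.no_nat`);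
* `stage` : `lev S n ≤ O₂(P)` implies `lev S n ≤ O₂(R)` for all `R ∈ P*(S)` with `⟨R, C_G(Z)⟩` local;
* `hpar` : `lev S n ≤ O₂(R)` for all `R ∈ P**` implies the same for all `R ∈ P*(S)`; `hpar_lev`, `hpar_hypC`.
-/

set_option autoImplicit false
set_option linter.unusedSectionVars false

namespace Cfsg.Agent.Omega.NO3S.ThmB.Main

open Subgroup Cfsg Cfsg.Agent.ZN Cfsg.Agent.ZN.ChoiceBase Cfsg.Agent.Omega.MinPar Cfsg.Agent.Omega.Frame
open Cfsg.Agent.Omega.NO3S Cfsg.Agent.Omega.NO3S.ThmB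
open Cfsg.Agent.Omega.NO3S.Level (Lev BO lev lev_isLev nxt)
open Cfsg.Agent.Omega.FFThm (NatKM SymKM NatK SymK OffM ElemM NoOverM StmtM ConclM ActsSL ActsSym)
open Cfsg.Agent.Omega.FrameFF (cv)
open Cfsg.Agent.Omega.FrameNOFF (CZ)

universe u

variable {G : Type u} [Group G] [Finite G] {S : Sylow 2 G} {P R : Subgroup G}

omit [Finite G] in
theorem exists_ne {H : Subgroup G} (h : H ≠ ⊥) : ∃ z ∈ H, z ≠ 1 := by
  by_contra hcon
  push Not at hcon
  exact h (eq_bot_iff.2 fun x hx => mem_bot.2 (hcon x hx))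

/-- NOFF: two members of `P*(S)` generate a local subgroup. -/
theorem isLoc_sup (hG : IsCharacteristicTwoType G) (hF : ¬ FF (S : Subgroup G)) (hP : IsParS (S : Subgroup G) P)
    (hR : IsParS (S : Subgroup G) R) : IsLoc (S : Subgroup G) (P ⊔ R) := by
  refine ⟨hP.le.trans le_sup_left, fun hcore => ?_⟩
  let X : Bool → Subgroup G := fun b => if b then R else P
  have hX : ∀ i, IsParS (S : Subgroup G) (X i) := fun i => by cases i <;> [exact hP; exact hR]
  obtain ⟨b, -, -, i, -, h2, -⟩ := MinPar.IsPar.odd_of_not_FF hG S hF (P := X) (fun i => (hX i).toIsPar) hcore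
  exact (hX (!i)).not_zc h2

/-- `Z = C_{V_P}(S)` -/
theorem zc_eq (hG : IsCharacteristicTwoType G) (hP : IsLoc (S : Subgroup G) P) :
    zl (S : Subgroup G) P ⊓ centralizer ((S : Subgroup G) : Set G) = zc (S : Subgroup G) := by
  refine le_antisymm (fun x hx => ?_) (fun x hx => ⟨ZN.zc_le_zl hx, mem_centralizer_iff.2 fun s hs =>
    (ChoiceBase.mem_zc.1 hx).2.2 s hs⟩)
  have h1 := ChoiceBase.mem_zc.1 (hP.zl_le S hG hx.1)
  exact ChoiceBase.mem_zc.2 ⟨hP.o2_le S h1.1, h1.2.1, fun s hs => mem_centralizer_iff.1 hx.2 s hs⟩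

/-- `R` does not centralise `Z`. -/
theorem not_cent (hR : IsParS (S : Subgroup G) R) : ¬ R ≤ centralizer (zc (S : Subgroup G) : Set G) := fun h =>
  hR.not_zc (h.trans (centralizer_le_normalizer _))

/-- `Z ≰ C_{V_R}(O²(R))` -/
theorem not_le_cv (hR : IsParS (S : Subgroup G) R) : ¬ zc (S : Subgroup G) ≤ cv (S : Subgroup G) R := by
  intro h
  apply not_cent hR
  rw [← TTn.DiCoreAbs.oddGen_sup hR.le (MinSimple.Basic.not_dvd_relIndex S hR.le)]
  refine sup_le ?_ ?_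
  · exact le_centralizer_iff.1 (h.trans inf_le_right)
  · exact fun s hs => mem_centralizer_iff.2 fun z hz => ((ChoiceBase.mem_zc.1 hz).2.2 s hs).symm

/-- `V_P` of type `S_{2^m+1}^k` with `C_{V_P}(O²(P)) = 1`: `|Z| ≤ 2`. -/
theorem sym_zc (hG : IsCharacteristicTwoType G) (hP : IsParS (S : Subgroup G) P)
    (hcv : cv (S : Subgroup G) P = ⊥) {k m : ℕ} (hk : 0 < k) (hm : 1 ≤ m)
    (N : SymK (S : Subgroup G) P (zl (S : Subgroup G) P) (cv (S : Subgroup G) P) k m) {z z' : G}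
    (hz : z ∈ zc (S : Subgroup G)) (hz' : z' ∈ zc (S : Subgroup G)) (h1 : z ≠ 1) (h1' : z' ≠ 1) : z = z' := by
  have c := OneLine.minH hG hP
  have h := OneLine.sy_of c N hk hm SQ1.FFOf.cv_le SQ1.FFOf.cv_norm
  -- `e z i` is constant outside `0` and `e z i 0 = 0`
  have key : ∀ z ∈ zc (S : Subgroup G), ∃ a : ZMod 2, ∀ i x, N.e z i x = if x = 0 then 0 else a := by
    intro z hz
    have hzV := ZN.zc_le_zl (L := P) hz
    have hfix : ∀ s ∈ (S : Subgroup G), s * z * s⁻¹ = z := fun s hs => by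
      rw [(ChoiceBase.mem_zc.1 hz).2.2 s hs]; group
    have hcon : ∀ i x y, x ≠ 0 → y ≠ 0 → N.e z i x = N.e z i y := by
      intro i x y hx hy
      obtain ⟨t, ht, π, hg, hπ⟩ := OneLine.cyc_T' c N h hm i hx hy
      have h2 := hg.act z hzV i x
      rw [hfix t ht, Equiv.Perm.one_apply, Pi.mulSingle_eq_same, hπ] at h2
      exact h2.symm
    have hlast : (Fin.last (2 ^ m) : Fin (2 ^ m + 1)) ≠ 0 := by
      intro h0
      have h2 := congrArg Fin.val h0
      rw [Fin.val_last, Fin.val_zero] at h2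
      exact (pow_ne_zero m two_ne_zero) h2
    have hzero : ∀ i, N.e z i 0 = 0 := by
      intro i
      have h2 := N.even z hzV i
      rw [Fin.sum_univ_succ] at h2
      have h3 : ∀ x : Fin (2 ^ m), N.e z i x.succ = N.e z i (Fin.last (2 ^ m)) := fun x =>
        hcon i _ _ (Fin.succ_ne_zero x) hlast
      rw [Finset.sum_congr rfl fun x _ => h3 x, Finset.sum_const, Finset.card_univ, Fintype.card_fin] at h2
      have h4 : (2 ^ m) • N.e z i (Fin.last (2 ^ m)) = 0 := by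
        generalize N.e z i (Fin.last (2 ^ m)) = c
        obtain ⟨l, hl⟩ : ∃ l, m = l + 1 := ⟨m - 1, by omega⟩
        rw [hl, pow_succ, mul_smul, two_nsmul, CharTwo.add_self_eq_zero, smul_zero]
      rw [h4, add_zero] at h2
      exact h2
    refine ⟨N.e z ⟨0, hk⟩ (Fin.last (2 ^ m)), fun i x => ?_⟩
    by_cases hx : x = 0
    · rw [if_pos hx, hx]; exact hzero i
    · rw [if_neg hx]
      obtain ⟨t, ht, σ, τ, hta, hσ⟩ := N.trans ⟨0, hk⟩ i
      have h2 := hta z hzV ⟨0, hk⟩ (Fin.last (2 ^ m))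
      rw [hfix t ht, hσ] at h2
      rw [← h2]
      refine hcon i _ _ hx fun h0 => hlast ?_
      have h3 := N.fix0 t ht σ τ hta ⟨0, hk⟩
      exact (τ ⟨0, hk⟩).injective (h0.trans h3.symm)
  obtain ⟨a, ha⟩ := key z hz
  obtain ⟨a', ha'⟩ := key z' hz'
  have hne : ∀ z ∈ zc (S : Subgroup G), z ≠ 1 → ∀ a : ZMod 2, (∀ i x, N.e z i x = if x = 0 then 0 else a) → a = 1 := by
    intro z hz h1 a ha
    have ha0 : a ≠ 0 := fun h0 => h1 (by
      have h2 : N.e z = 0 := by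
        funext i x
        rw [ha, h0, ite_self]
        rfl
      have h3 := (N.ker z (ZN.zc_le_zl hz)).1 h2
      rw [hcv, mem_bot] at h3
      exact h3)
    have key2 : ∀ a : ZMod 2, a ≠ 0 → a = 1 := by decide
    exact key2 a ha0
  have e1 := hne z hz h1 a ha
  have e2 := hne z' hz' h1' a' ha'
  refine OneLine.sy_inj h hcv (ZN.zc_le_zl hz) (ZN.zc_le_zl hz') ?_
  funext i x
  rw [ha, ha', e1, e2]

/-! ### The core -/

section core

variable (h : HypN S P) (hR : IsParS (S : Subgroup G) R) {FF0 : Set (Subgroup G)}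
  (X : BSit (S : Subgroup G) P R (zl (S : Subgroup G) (P ⊔ R)) (zl (S : Subgroup G) R) (P ⊔ R) FF0)
  {F : Type} [Field F] [Finite F] [CharP F 2] {k : ℕ}
  (M : NatKM F (S : Subgroup G) R (zl (S : Subgroup G) R) (cv (S : Subgroup G) R) k)

include h hR X M

theorem fxU : ∀ N : Subgroup G, N ≤ zl (S : Subgroup G) (P ⊔ R) → (S : Subgroup G) ≤ normalizer (N : Set G) →
    N ≠ ⊥ → ∃ z ∈ N, z ∈ zc (S : Subgroup G) ∧ z ≠ 1 := by
  have hL := isLoc_sup h.ctx.char2 h.noFF h.star hR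
  intro N hN hSN hne
  have hU2 : IsPGroup 2 (zl (S : Subgroup G) (P ⊔ R)) := S.isPGroup'.to_le (Inst.zl_sup_S h.ctx.char2 hL)
  obtain ⟨z, hz, hzZ, hz1⟩ := TrNat.fx S.isPGroup' hU2 N hN hSN hne
  rw [zc_eq h.ctx.char2 hL] at hzZ
  exact ⟨z, hz, hzZ, hz1⟩

/-- **`|Z| ≥ 4`, `V_P` natural: impossible.** -/
theorem no_big {F0 : Type} [Field F0] [Finite F0] [CharP F0 2] {k0 : ℕ}
    (N : NatK F0 (S : Subgroup G) P (zl (S : Subgroup G) P) (cv (S : Subgroup G) P) k0)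
    {z z' : G} (hz : z ∈ zc (S : Subgroup G)) (hz' : z' ∈ zc (S : Subgroup G)) (h1 : z ≠ 1) (h1' : z' ≠ 1)
    (hne : z ≠ z') : False := by
  have hG := h.ctx.char2
  have hWP : P ≤ normalizer (zl (S : Subgroup G) P : Set G) := le_normalizer_zl _ _
  have hS : ChoiceSit.Syl (S : Subgroup G) P := OneLine.syl_of h.star
  rw [h.toHyp.cv] at N
  have hZ := zc_eq hG h.star.isLoc
  have T : TrHyp (S : Subgroup G) P R (zl (S : Subgroup G) (P ⊔ R)) (zl (S : Subgroup G) R)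
      (DM (zl (S : Subgroup G) (P ⊔ R)) FF0) (zc (S : Subgroup G)) := by
    refine (Inst.nb hG hR M).trHyp X (fxU h hR X M) ?_ ?_ ZN.zc_le_zl (not_le_cv hR)
    · rw [← hZ]
      exact TrNat.nZ hWP
    · rw [← hZ]
      exact TrNat.tr N hWP hS
  refine (Inst.nb hG hR M).no_nat X T N ?_ hS hWP rfl ZN.zc_le_zl fun K hK hPK => MinSimple.VModule.zl_le hK hPK
  -- `4 ≤ |F₀|`
  by_contra hcon
  have h2 : ∀ β : F0, β ≠ 0 → β = 1 := by
    classical
    have : Fintype F0 := Fintype.ofFinite F0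
    have h3 : Nat.card F0 = 2 := by
      obtain ⟨e, -, he⟩ := FiniteField.card F0 2
      rw [Nat.card_eq_fintype_card, he] at hcon ⊢
      have he0 : 0 < (e : ℕ) := e.pos
      have he1 : (e : ℕ) < 2 := by
        by_contra hge
        have : 2 ^ 2 ≤ 2 ^ (e : ℕ) := Nat.pow_le_pow_right (by norm_num) (by omega)
        omega
      have he2 : (e : ℕ) = 1 := by omega
      rw [he2, pow_one]
    rw [Nat.card_eq_two_iff' (0 : F0)] at h3
    obtain ⟨y, -, hy⟩ := h3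
    exact fun β hβ => (hy β hβ).trans (hy 1 one_ne_zero).symm
  apply hne
  have hzZ : z ∈ zl (S : Subgroup G) P ⊓ centralizer ((S : Subgroup G) : Set G) := by rw [hZ]; exact hz
  have hzZ' : z' ∈ zl (S : Subgroup G) P ⊓ centralizer ((S : Subgroup G) : Set G) := by rw [hZ]; exact hz'
  refine Cfsg.Agent.Omega.NO3S.ThmB.e_inj N rfl hzZ.1 hzZ'.1 ?_
  funext i
  have k1 := TrNat.comp N hzZ h1 i
  have k2 := TrNat.comp N hzZ' h1' i
  exact vec_eq ((h2 _ k1.2).trans (h2 _ k2.2).symm) (k1.1.trans k2.1.symm)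

/-- **`|Z| = 2`: `P ≤ ⟨R, C_G(Z)⟩`.** -/
theorem no_small (hloc : IsLoc (S : Subgroup G) (R ⊔ CZ (S : Subgroup G)))
    (hZ2 : ∀ z ∈ zc (S : Subgroup G), ∀ z' ∈ zc (S : Subgroup G), z ≠ 1 → z' ≠ 1 → z = z') : False := by
  have hG := h.ctx.char2
  have Nb' := Inst.nb hG hR M
  -- `C_Z(R) = 1`
  have hcR : zc (S : Subgroup G) ⊓ centralizer (R : Set G) = ⊥ := by
    by_contra hne
    obtain ⟨z, hz, hz1⟩ := exists_ne hne
    apply not_cent hR
    intro g hg
    rw [mem_centralizer_iff]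
    intro z' hz'
    by_cases h1 : z' = 1
    · rw [h1, one_mul, mul_one]
    · have e := hZ2 z' hz' z hz.1 h1 hz1
      rw [e]
      exact (mem_centralizer_iff.1 hz.2 g hg).symm
  have hD : cv (S : Subgroup G) R = ⊥ := NoFF.LinesPlug.inf_oddGen_eq_bot hG S hR.toIsPar hcR
  have T : TrHyp (S : Subgroup G) P R (zl (S : Subgroup G) (P ⊔ R)) (zl (S : Subgroup G) R)
      (DM (zl (S : Subgroup G) (P ⊔ R)) FF0) (zc (S : Subgroup G)) := by
    refine Nb'.trHyp X (fxU h hR X M) ?_ ?_ ZN.zc_le_zl (not_le_cv hR)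
    · intro g _ hgS z hz
      have h1 := mem_normalizer_iff.1 ((Level.normalizer_le_zc (S : Subgroup G)) hgS) z
      exact h1.1 hz
    · intro z hz z' hz' h1 h1'
      refine ⟨1, one_mem _, one_mem _, ?_⟩
      rw [one_mul, inv_one, mul_one]
      exact hZ2 z hz z' hz' h1 h1'
  have hRoot : Root M.e (zl (S : Subgroup G) R) (DM (zl (S : Subgroup G) (P ⊔ R)) FF0) := by
    intro B hB
    obtain ⟨i, O⟩ := Nb'.one X hB
    have hBS := X.le B hB.1.1
    refine ⟨i, fun x hx => ⟨fun hx' => ?_, fun hx' => ?_⟩⟩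
    · have h2 := Nb'.e_comm hBS O hx'
      exact ⟨h2.2.2, h2.2.1⟩
    · obtain ⟨y, hy, hyi⟩ := Nb'.exists_comm hBS O (M.e x i 0)
      have h2 := Nb'.e_comm hBS O hy
      have h3 : x = y := by
        refine Cfsg.Agent.Omega.NO3S.ThmB.e_inj M.toNatK hD hx h2.1 ?_
        funext l
        by_cases hl : l = i
        · rw [hl]
          exact vec_eq hyi.symm (hx'.1.trans h2.2.2.symm)
        · rw [hx'.2 l hl, h2.2.1 l hl]
      rw [h3]; exact hy
  obtain ⟨z, hz, hz1⟩ := exists_ne h.toHyp.zc_ne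
  have hP : P ≤ R ⊔ CZ (S : Subgroup G) := by
    refine torus_le M.toNatK (Nb'.fam X) hRoot T hD hz1 (ChoiceBase.mem_zc.1 hz).2.2 hz le_sup_left fun x hx => ?_
    refine (le_sup_right : CZ (S : Subgroup G) ≤ _) (mem_centralizer_iff.2 fun z' hz' => ?_)
    by_cases h1 : z' = 1
    · rw [h1, one_mul, mul_one]
    · have e := hZ2 z' hz' z hz h1 hz1
      rw [e]
      exact hx.symm
  have hn : P ⊔ CZ (S : Subgroup G) ≤ normalizer (o2 (R ⊔ CZ (S : Subgroup G)) : Set G) :=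
    (sup_le hP le_sup_right).trans (le_normalizer_o2 _)
  exact hloc.o2_ne (h.toHyp.nonLoc _ (isPGroup_o2 _) (le_sup_left.trans hn) (le_sup_right.trans hn))

end core

/-! ### The stages -/

/-- `|Z| = 2` or `V_P` of the types of the FF theorem -/
def Ty (S P : Subgroup G) : Prop :=
  (∀ z ∈ zc S, ∀ z' ∈ zc S, z ≠ 1 → z' ≠ 1 → z = z') ∨ ConclM S P

/-- **THEOREM B** over a family. -/
theorem core (h : HypN S P) (hty : Ty (S : Subgroup G) P) (hR : IsParS (S : Subgroup G) R)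
    (hloc : ¬ NonLoc R (CZ (S : Subgroup G)) ∨ ∃ z ∈ zc (S : Subgroup G), ∃ z' ∈ zc (S : Subgroup G), z ≠ 1 ∧ z' ≠ 1 ∧
      z ≠ z') {FF0 : Set (Subgroup G)}
    (X : BSit (S : Subgroup G) P R (zl (S : Subgroup G) (P ⊔ R)) (zl (S : Subgroup G) R) (P ⊔ R) FF0)
    (h2 : ∃ A ∈ FF0, ¬ A ≤ o2 R) : False := by
  have hG := h.ctx.char2
  have hL := isLoc_sup hG h.noFF h.star hR
  obtain ⟨F, i1, i2, i3, k, -, -, ⟨M⟩⟩ := Inst.four_of hG h.star hR hL FF.Glob.ffthmM X h2 h.toHyp.inf_eq_bot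
  by_cases hZ : ∀ z ∈ zc (S : Subgroup G), ∀ z' ∈ zc (S : Subgroup G), z ≠ 1 → z' ≠ 1 → z = z'
  · rcases hloc with hl | ⟨z, hz, z', hz', h1, h1', hne⟩
    · exact no_small h hR X M ((not_nonLoc_iff S hR.le).1 hl) hZ
    · exact hne (hZ z hz z' hz' h1 h1')
  · rcases hty with h3 | h3
    · exact hZ h3
    push Not at hZ
    obtain ⟨z, hz, z', hz', h1, h1', hne⟩ := hZ
    rcases h3 with ⟨F0, j1, j2, j3, k0, -, ⟨N⟩⟩ | ⟨k0, m, hk0, hm, ⟨N⟩⟩
    · exact no_big h hR X M N.toNatK hz hz' h1 h1' hne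
    · exact hne (sym_zc hG h.star h.toHyp.cv hk0 (by omega) N.toSymK hz hz' h1 h1')

/-- **THEOREM B** over a `BFam`: a family of best offenders which is contained in `O₂(P)` is contained in `O₂(R)`. -/
theorem le_of_bfam (h : HypN S P) (hty : Ty (S : Subgroup G) P) (hR : IsParS (S : Subgroup G) R)
    (hloc : ¬ NonLoc R (CZ (S : Subgroup G)) ∨ ∃ z ∈ zc (S : Subgroup G), ∃ z' ∈ zc (S : Subgroup G), z ≠ 1 ∧ z' ≠ 1 ∧
      z ≠ z') {FF0 : Set (Subgroup G)}
    (X : BFam (S : Subgroup G) (zl (S : Subgroup G) (P ⊔ R)) (P ⊔ R) FF0) (h1 : ∀ A ∈ FF0, A ≤ o2 P) :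
    ∀ A ∈ FF0, A ≤ o2 R := by
  by_contra hcon
  push Not at hcon
  have hL := isLoc_sup h.ctx.char2 h.noFF h.star hR
  exact core h hty hR hloc (Inst.bsit h.ctx.char2 h.star hR hL X h1 hcon) hcon

/-- **THEOREM B at the levels**: `lev S n ≤ O₂(P)` implies `lev S n ≤ O₂(R)`. -/
theorem stage (h : HypN S P) (hty : Ty (S : Subgroup G) P) (hR : IsParS (S : Subgroup G) R)
    (hloc : ¬ NonLoc R (CZ (S : Subgroup G)) ∨ ∃ z ∈ zc (S : Subgroup G), ∃ z' ∈ zc (S : Subgroup G), z ≠ 1 ∧ z' ≠ 1 ∧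
      z ≠ z') (n : ℕ) (hn : lev (S : Subgroup G) n ≤ o2 P) : lev (S : Subgroup G) n ≤ o2 R := by
  have hG := h.ctx.char2
  have hL := isLoc_sup hG h.noFF h.star hR
  induction n with
  | zero =>
    by_contra hcon
    have hn' : jj (S : Subgroup G) ≤ o2 P := hn
    have hcon' : ¬ jj (S : Subgroup G) ≤ o2 R := hcon
    refine core h hty hR hloc (Inst.bsit_AA hG h.star hR hL hn' hcon') ?_
    by_contra hc
    push Not at hc
    rw [jj_eq] at hcon'
    exact hcon' (sSup_le hc)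
  | succ n ih =>
    by_contra hcon
    have h1 := ih ((Level.lev_le_succ _ n).trans hn)
    have h2 := Inst.exists_BO hG hR (lev_isLev _ n) h1 hcon
    exact core h hty hR hloc (Inst.bsit_BO hG h.star hR hL (lev_isLev _ n) ((Level.lev_le_succ _ n).trans hn) h1
      (fun A hA => (Level.BO.le_nxt hA).trans hn) h2) h2

/-- `J(S) ≤ O₂(P)` implies `J(S) ≤ O₂(R)`. -/
theorem stage_jj (h : HypN S P) (hty : Ty (S : Subgroup G) P) (hR : IsParS (S : Subgroup G) R)
    (hloc : ¬ NonLoc R (CZ (S : Subgroup G)) ∨ ∃ z ∈ zc (S : Subgroup G), ∃ z' ∈ zc (S : Subgroup G), z ≠ 1 ∧ z' ≠ 1 ∧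
      z ≠ z') (hn : jj (S : Subgroup G) ≤ o2 P) : jj (S : Subgroup G) ≤ o2 R :=
  stage h hty hR hloc 0 hn

/-- **`hpar`**: if `lev S n ≤ O₂(R)` for all `R ∈ P**`, then for all `R ∈ P*(S)`. -/
theorem hpar (h : HypN S P) (hty : Ty (S : Subgroup G) P) {n : ℕ}
    (hn : ∀ R : Subgroup G, IsParS (S : Subgroup G) R → NonLoc R (CZ (S : Subgroup G)) →
      lev (S : Subgroup G) n ≤ o2 R) :
    ∀ R : Subgroup G, IsParS (S : Subgroup G) R → lev (S : Subgroup G) n ≤ o2 R := by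
  intro R hR
  by_cases hl : NonLoc R (CZ (S : Subgroup G))
  · exact hn R hR hl
  · exact stage h hty hR (Or.inl hl) n (hn P h.star h.nonLoc)

/-- `V_P` is of the types of the FF theorem if `lev S n ≤ O₂(P)`, `lev S (n + 1) ≰ O₂(P)`. -/
theorem ty_of_lev (h : HypN S P) {n : ℕ} (h1 : lev (S : Subgroup G) n ≤ o2 P)
    (h2 : ¬ lev (S : Subgroup G) (n + 1) ≤ o2 P) : Ty (S : Subgroup G) P := by
  obtain ⟨A, hA, hAQ⟩ := Inst.exists_BO h.ctx.char2 h.star (lev_isLev _ n) h1 h2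
  exact Or.inr (h.toHyp.ff FF.Glob.ffthmM
    (Level.ffMod_of_BO h.ctx.char2 h.star (lev_isLev _ n) h1 hA hAQ)).2

/-- **THEOREM B, final form**: `P ∈ P**`, `lev S n ≤ O₂(R)` for all `R ∈ P**`, `lev S (n + 1) ≰ O₂(P)`; then
`lev S n ≤ O₂(R)` for all `R ∈ P*(S)`. -/
theorem hpar_lev (h : HypN S P) {n : ℕ}
    (hn : ∀ R : Subgroup G, IsParS (S : Subgroup G) R → NonLoc R (CZ (S : Subgroup G)) →
      lev (S : Subgroup G) n ≤ o2 R) (h2 : ¬ lev (S : Subgroup G) (n + 1) ≤ o2 P) :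
    ∀ R : Subgroup G, IsParS (S : Subgroup G) R → lev (S : Subgroup G) n ≤ o2 R :=
  hpar h (ty_of_lev h (hn P h.star h.nonLoc) h2) hn

/-- THEOREM B, final form, over `HypC`. -/
theorem hpar_hypC (h : HypC S) (hP : IsParS (S : Subgroup G) P) (hPn : NonLoc P (CZ (S : Subgroup G))) {n : ℕ}
    (hn : ∀ R : Subgroup G, IsParS (S : Subgroup G) R → NonLoc R (CZ (S : Subgroup G)) →
      lev (S : Subgroup G) n ≤ o2 R) (h2 : ¬ lev (S : Subgroup G) (n + 1) ≤ o2 P) :
    ∀ R : Subgroup G, IsParS (S : Subgroup G) R → lev (S : Subgroup G) n ≤ o2 R :=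
  hpar_lev (h.hypN hP hPn) hn h2

end Cfsg.Agent.Omega.NO3S.ThmB.Main

end

section


/-!
# Leaf NO-3S: FF-lines at any level (helper781 #16560)

* `LevSt S P` : the stage of `P`: `J(S) ≰ O₂(P)`, or there is `n` such that the `n`-th level `lev n`
  (`Level/Basic.lean`; `lev 0 = J(S)`, `lev (n + 1) = ⟨best offenders of S on Ω₁(Z(lev n))⟩ C_S(Ω₁(Z(lev n)))`) lies in
  `O₂(R)` for **all** `R ∈ P*(S)`, and `lev (n + 1) ≰ O₂(P)`;
* `HypF S P` : `HypN S P` and `|V_R| ≠ 4` for all `R ∈ P**`; `HypL S P` : `HypF S P` and `LevSt S P`;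
* `HypL.ffMod`, `HypL.concl` : `V_P` is an FF-module (no over-offender; natural / even-subset blocks, module form
  `FFThm.ConclM`);
* `HypL.exists_of` : in the case `HypC`, if some `P ∈ P**` has `V_P ≰ V^!(S)`, then some `P ∈ P**` satisfies `HypL S P`
  (THEOREM B, `ThmB/Main.lean`: helper555, 879, 365, 922, 134);
* `FullK V R` : `[w, K_R] = R` for all `w ∈ W_R - R` (`N_R = R` and `K_R` full), `FullK.ntr`, `fullK_of_ntr`;
* `FrB F S P B R` : the `(R, B)`-frame of helper973 (#16714) for a natural line `V_P`: `R` an `F`-line of `V_P` normalised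
  by `S`, `B = C_S(R)`; `FrB.geo`, `FrB.exists_crit` : the geometry of the points `R^g` (`Geo B R (N_G(R)) {P}`) and a
  critical pair.

`P** =` the members `P` of `P*(S)` with `⟨P, C_G(Z)⟩` nonlocal.
-/

set_option autoImplicit false

namespace Cfsg.Agent.Omega.NO3S

open Subgroup Cfsg Cfsg.Agent.ZN Cfsg.Agent.Omega.MinPar Cfsg.Agent.Omega.Frame Cfsg.Agent.Omega.FrameNOFF
open Cfsg.Agent.Omega.FrameFF (cv Single)
open Cfsg.Agent.Omega.NoFF.Lines
open Cfsg.Agent.Omega.NO3S.Level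

universe u

/-- `P ∈ P**`. -/
structure PSS {G : Type u} [Group G] (S P : Subgroup G) : Prop where
  par : IsParS S P
  nonLoc : NonLoc P (CZ S)

/-- The stage of `P`: `J(S) ≰ O₂(P)`, or there is `n` such that `lev S n ≤ O₂(R)` for **all** `R ∈ P*(S)` (THEOREM B)
and `lev S (n + 1) ≰ O₂(P)`. -/
def LevSt {G : Type u} [Group G] [Finite G] (S P : Subgroup G) : Prop :=
  ¬ jj S ≤ o2 P ∨ ∃ n, (∀ R, IsParS S R → lev S n ≤ o2 R) ∧ ¬ lev S (n + 1) ≤ o2 P

/-- `HypN` and no `V_R` of order 4, `R ∈ P**`: all the ends over a frame (`FrB`, ..) use, no stage. -/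
structure HypF {G : Type u} [Group G] [Finite G] (S : Sylow 2 G) (P : Subgroup G) : Prop extends HypN S P where
  four : ∀ R : Subgroup G, PSS (S : Subgroup G) R → Nat.card (zl (S : Subgroup G) R) ≠ 4

/-- **The hypotheses of the FF-lines, at any level.** -/
structure HypL {G : Type u} [Group G] [Finite G] (S : Sylow 2 G) (P : Subgroup G) : Prop extends HypF S P where
  stage : LevSt (S : Subgroup G) P

section facts

variable {G : Type u} [Group G] [Finite G] {S : Sylow 2 G} {P : Subgroup G}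

theorem Hyp.pss (h : Hyp S P) : PSS (S : Subgroup G) P := ⟨h.star, h.nonLoc⟩

/-- `HypJ` is stage `-1`. -/
theorem HypJ.toL (h : HypJ S P)
    (h4 : ∀ R : Subgroup G, PSS (S : Subgroup G) R → Nat.card (zl (S : Subgroup G) R) ≠ 4) : HypL S P where
  toHypF := { toHypN := h.toHypN, four := h4 }
  stage := Or.inl h.jnot

/-- Stage `n`: a best offender on `Ω₁(Z(lev n))` which is not in `O₂(P)`. -/
theorem exists_BO (hG : IsCharacteristicTwoType G) (hP : IsParS (S : Subgroup G) P) {n : ℕ}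
    (h1 : lev (S : Subgroup G) n ≤ o2 P) (h2 : ¬ lev (S : Subgroup G) (n + 1) ≤ o2 P) :
    ∃ A ∈ BO (S : Subgroup G) (lev (S : Subgroup G) n), ¬ A ≤ o2 P := by
  by_contra hcon
  push Not at hcon
  apply h2
  show nxt (S : Subgroup G) (lev (S : Subgroup G) n) ≤ o2 P
  refine sup_le ?_ (sSup_le hcon)
  have h3 : zl (S : Subgroup G) P ≤ zc (lev (S : Subgroup G) n) :=
    (hP.isLoc.zl_le S hG).trans ((lev_isLev (S : Subgroup G) n).zc_o2_le h1 (hP.isLoc.o2_le S))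
  have h4 := IsParS.inf_centralizer S hG hP
  rw [← h4]
  exact inf_le_inf_left _ (centralizer_le h3)

/-- `V_P` is an FF-module. -/
theorem HypL.ffMod (h : HypL S P) : FFMod (S : Subgroup G) P := by
  rcases h.stage with hj | ⟨n, hn, hn1⟩
  · exact HypJ.ffMod ⟨h.toHypN, hj⟩
  · obtain ⟨A, hA, hAQ⟩ := exists_BO h.ctx.char2 h.star (hn P h.star) hn1
    exact ffMod_of_BO h.ctx.char2 h.star (lev_isLev _ n) (hn P h.star) hA hAQ

/-- **The FF theorem**: no over-offender, natural or even-subset blocks (module form). -/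
theorem HypL.concl (h : HypL S P) :
    FFThm.NoOverM (zl (S : Subgroup G) P) P ∧ FFThm.ConclM (S : Subgroup G) P :=
  h.toHyp.ff FF.Glob.ffthmM h.ffMod

/-- Some `P ∈ P**` has `V_P ≰ V^!(S)`: choose one of minimal stage. -/
theorem HypL.exists_of (h : HypC S)
    (hv : ∃ R : Subgroup G, PSS (S : Subgroup G) R ∧ ¬ zl (S : Subgroup G) R ≤ VB (S : Subgroup G)) :
    ∃ P, HypL S P := by
  have hex : ∃ n, ∃ R : Subgroup G, PSS (S : Subgroup G) R ∧ ¬ lev (S : Subgroup G) (n + 1) ≤ o2 R := by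
    obtain ⟨R, hR, hRv⟩ := hv
    rcases exists_lev h.ctx.char2 hR.par hRv with h1 | ⟨n, -, h2, -⟩
    · exact absurd (h.jle R hR.par hR.nonLoc) h1
    · exact ⟨n, R, hR, h2⟩
  classical
  obtain ⟨P, hP, hPn⟩ := Nat.find_spec hex
  have hle : ∀ R, PSS (S : Subgroup G) R → lev (S : Subgroup G) (Nat.find hex) ≤ o2 R := by
    intro Q hQ
    rcases Nat.eq_zero_or_pos (Nat.find hex) with h0 | h0
    · rw [h0]; exact h.jle Q hQ.par hQ.nonLoc
    · obtain ⟨m, hm⟩ := Nat.exists_eq_succ_of_ne_zero h0.ne'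
      have hmin := Nat.find_min hex (m := m) (by omega)
      push Not at hmin
      rw [hm]
      exact hmin Q hQ
  exact ⟨P, { toHypF := { toHypN := h.hypN hP.par hP.nonLoc, four := fun R hR => h.four R hR.par hR.nonLoc }
              stage := Or.inr ⟨_, ThmB.Main.hpar_hypC h hP.par hP.nonLoc (fun R h1 h2 => hle R ⟨h1, h2⟩) hPn, hPn⟩ }⟩

end facts

/-- **FULL**: `[w, K_R] = R` for all `w ∈ W_R - R`; `W_R` = the product of the lines through `R`, `K_R` = the kernel of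
`C_G(R)` on `W_R / R`. In the texts: "`N_p = p` and `K_p` is full". -/
def FullK {G : Type u} [Group G] (V R : Subgroup G) : Prop :=
  ∀ w ∈ PT.ws V R, w ∉ R → ∀ r ∈ R, ∃ k ∈ PT.kx V R, k * w * k⁻¹ * w⁻¹ = r

/-- `N_R = R` -/
theorem FullK.ntr {G : Type u} [Group G] {V R : Subgroup G} (h : FullK V R) (hR : R ≠ ⊥) {w : G}
    (hw : w ∈ PT.ws V R) (hc : ∀ k ∈ PT.kx V R, k * w = w * k) : w ∈ R := by
  by_contra hn
  obtain ⟨r, hr, hr1⟩ := R.bot_or_exists_ne_one.resolve_left hR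
  obtain ⟨k, hk, hkw⟩ := h w hw hn r hr
  apply hr1
  rw [← hkw, hc k hk]
  group

/-- `|R| = 2`: `N_R = R` is enough. -/
theorem fullK_of_ntr {G : Type u} [Group G] {V R : Subgroup G} (hR : Nat.card R = 2)
    (h : ∀ w ∈ PT.ws V R, (∀ k ∈ PT.kx V R, k * w = w * k) → w ∈ R) : FullK V R := by
  intro w hw hwR r hr
  have h2 : ¬ ∀ k ∈ PT.kx V R, k * w = w * k := fun hc => hwR (h w hw hc)
  by_cases hr1 : r = 1
  · exact ⟨1, one_mem _, by rw [hr1]; group⟩
  push Not at h2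
  obtain ⟨k, hk, hkw⟩ := h2
  refine ⟨k, hk, ?_⟩
  have h3 : k * w * k⁻¹ * w⁻¹ ∈ R := hk.2 w hw
  have h4 : k * w * k⁻¹ * w⁻¹ ≠ 1 := fun e => hkw (by
    calc k * w = (k * w * k⁻¹ * w⁻¹) * (w * k) := by group
      _ = w * k := by rw [e, one_mul])
  obtain ⟨y, -, hy⟩ := (Nat.card_eq_two_iff' (1 : R)).1 hR
  have e1 := hy ⟨_, h3⟩ (fun e => h4 (congrArg Subtype.val e))
  have e2 := hy ⟨r, hr⟩ (fun e => hr1 (congrArg Subtype.val e))
  exact congrArg Subtype.val (e1.trans e2.symm)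

/-- **The `(R, B)`-frame for a natural line** (helper973 #16714; `NO3S/PB/*.lean`): points are the conjugates of `R`. -/
structure FrB (F : Type) [Field F] {G : Type u} [Group G] [Finite G] (S : Sylow 2 G) (P B R : Subgroup G) :
    Prop where
  pb : PT.PB S B P (zl (S : Subgroup G) P) R
  om : PT.OmB B (zl (S : Subgroup G) P)
  card : Nat.card R = Nat.card F
  /-- LEMMA UNIQ over `B` (helper749, `Fld/UniqB.lean`, `Fld/UniqLev.lean`) -/
  uniq : ∀ Q : Subgroup G, IsParS (S : Subgroup G) Q →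
    Q ≤ normalizer (R : Set G) ∨ zl (S : Subgroup G) Q = zl (S : Subgroup G) P

section frame

variable {F : Type} [Field F] {G : Type u} [Group G] [Finite G] {S : Sylow 2 G} {P B R : Subgroup G}

/-- The geometry of the points `R^g`: the first argument is `B`. -/
theorem FrB.geo (h : FrB F S P B R) (hp : Hyp S P) : Geo B R (normalizer (R : Set G)) {P} := h.pb.geo hp

theorem FrB.exists_crit (h : FrB F S P B R) (hp : Hyp S P) :
    ∃ n, 1 ≤ n ∧ ∃ y, Crit R (normalizer (R : Set G)) {P} n 1 y := h.pb.exists_crit hp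

end frame

end Cfsg.Agent.Omega.NO3S

end

section


/-!
# THEOREM B at the limit level

* `zl_le_VB` : `V_R ≤ V^!(S)` for all `R ∈ P**` implies the same for all `R ∈ P*(S)` (some `P ∈ P**` with `|Z| = 2` or
  `V_P` of the types of the FF theorem);
* `le_norm_lim_hypC` : then all of `P*(S)` normalises `lim S` and `V^!(S)`.
-/

set_option autoImplicit false
set_option linter.unusedSectionVars false

namespace Cfsg.Agent.Omega.NO3S.ThmB.Limit

open Subgroup Cfsg Cfsg.Agent.ZN Cfsg.Agent.ZN.ChoiceBase Cfsg.Agent.Omega.MinPar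
open Cfsg.Agent.Omega.NO3S Cfsg.Agent.Omega.NO3S.ThmB Cfsg.Agent.Omega.NO3S.ThmB.Main
open Cfsg.Agent.Omega.FrameNOFF (CZ)

universe u

variable {G : Type u} [Group G] [Finite G] {S : Sylow 2 G} {P : Subgroup G}

/-- **The limit level**: if `lim S ≤ O₂(R)` for all `R ∈ P**`, then for all `R ∈ P*(S)`. -/
theorem lim_le (h : HypN S P) (hty : Ty (S : Subgroup G) P)
    (hV : ∀ R : Subgroup G, IsParS (S : Subgroup G) R → NonLoc R (CZ (S : Subgroup G)) →
      zl (S : Subgroup G) R ≤ Level.VB (S : Subgroup G)) :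
    ∀ R : Subgroup G, IsParS (S : Subgroup G) R → Level.lim (S : Subgroup G) ≤ o2 R := by
  intro R hR
  have key := hpar h hty (n := Nat.card G + 1) fun R hR hRn => by
    rw [Level.lev_lim]
    exact (Level.zl_le_VB_iff h.ctx.char2 hR).1 (hV R hR hRn)
  have h1 := key R hR
  rwa [Level.lev_lim] at h1

/-- **The limit level**: if `V_R ≤ V^!(S)` for all `R ∈ P**`, then for all `R ∈ P*(S)`. -/
theorem zl_le_VB (h : HypN S P) (hty : Ty (S : Subgroup G) P)
    (hV : ∀ R : Subgroup G, IsParS (S : Subgroup G) R → NonLoc R (CZ (S : Subgroup G)) →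
      zl (S : Subgroup G) R ≤ Level.VB (S : Subgroup G)) :
    ∀ R : Subgroup G, IsParS (S : Subgroup G) R → zl (S : Subgroup G) R ≤ Level.VB (S : Subgroup G) :=
  fun R hR => (Level.zl_le_VB_iff h.ctx.char2 hR).2 (lim_le h hty hV R hR)

/-- The type condition over `HypC`, `P ∈ P**` an FF-line (`FFMod`). -/
theorem ty_of_ffMod (h : HypN S P) (hff : FFMod (S : Subgroup G) P) : Ty (S : Subgroup G) P :=
  Or.inr (h.toHyp.ff FF.Glob.ffthmM hff).2

/-- **The limit level over `HypC`**, `P ∈ P**` an FF-line (`FFMod`). -/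
theorem zl_le_VB_hypC (h : HypC S) (hP : IsParS (S : Subgroup G) P) (hPn : NonLoc P (CZ (S : Subgroup G)))
    (hff : FFMod (S : Subgroup G) P)
    (hV : ∀ R : Subgroup G, IsParS (S : Subgroup G) R → NonLoc R (CZ (S : Subgroup G)) →
      zl (S : Subgroup G) R ≤ Level.VB (S : Subgroup G)) :
    ∀ R : Subgroup G, IsParS (S : Subgroup G) R → zl (S : Subgroup G) R ≤ Level.VB (S : Subgroup G) :=
  zl_le_VB (h.hypN hP hPn) (ty_of_ffMod (h.hypN hP hPn) hff) hV

/-- Then all of `P*(S)` and `N_G(S)` normalise `lim S` and `V^!(S)`. -/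
theorem le_norm_lim_hypC (h : HypC S) (hP : IsParS (S : Subgroup G) P) (hPn : NonLoc P (CZ (S : Subgroup G)))
    (hff : FFMod (S : Subgroup G) P)
    (hV : ∀ R : Subgroup G, IsParS (S : Subgroup G) R → NonLoc R (CZ (S : Subgroup G)) →
      zl (S : Subgroup G) R ≤ Level.VB (S : Subgroup G)) :
    ∀ R : Subgroup G, IsParS (S : Subgroup G) R →
      R ≤ normalizer (Level.lim (S : Subgroup G) : Set G) ∧ R ≤ normalizer (Level.VB (S : Subgroup G) : Set G) :=
  fun R hR =>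
    have h1 := Level.le_norm_lim h.ctx.char2 hR (zl_le_VB_hypC h hP hPn hff hV R hR)
    ⟨h1, h1.trans (Level.norm_lim_le _)⟩

end Cfsg.Agent.Omega.NO3S.ThmB.Limit

end

section


/-!
# `FullK` for `|V_P| = 4` in the language of `MinSimple/Geo.lean`

* `ws_eq`, `kq_eq` : `Geo.ws V z = PT.ws V ⟨z⟩`, `Geo.kq V z = PT.kx V ⟨z⟩`;
* `zc_eq` : `Ω₁(Z(S)) = ⟨z⟩` if `|V_P| = 4`;
* `fullK_iff` : `FullK V_P Ω₁(Z(S))` iff `N_z = z`, i.e. every `w ∈ W_z` centralised by `kq V_P z` is in `⟨z⟩`.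
-/

set_option autoImplicit false

namespace Cfsg.Agent.Omega.NO3S.FullTwo

open Subgroup Cfsg Cfsg.Agent.ZN Cfsg.Agent.Omega.MinPar Cfsg.Agent.MinSimple
open Cfsg.Agent.MinSimple.VModule (zc_le_zl zc_sq)

universe u

section basic

variable {G : Type*} [Group G]

theorem cj_eq (g : G) (H : Subgroup G) : ChoiceBase.cj g H = PT.cj g H := by
  ext x
  rw [PT.mem_cj, ChoiceBase.mem_cj]

theorem ws_eq (V : Subgroup G) (z : G) : Geo.ws V z = PT.ws V (zpowers z) := by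
  have h : Geo.lines V z = {L | PT.IsCj V L ∧ zpowers z ≤ L} := by
    ext L
    constructor
    · rintro ⟨⟨g, hg⟩, hz⟩
      exact ⟨⟨g, hg.trans (cj_eq g V)⟩, zpowers_le.2 hz⟩
    · rintro ⟨⟨g, hg⟩, hz⟩
      exact ⟨⟨g, hg.trans (cj_eq g V).symm⟩, zpowers_le.1 hz⟩
  show sSup (Geo.lines V z) = sSup {L | PT.IsCj V L ∧ zpowers z ≤ L}
  rw [h]

theorem kq_eq (V : Subgroup G) (z : G) : Geo.kq V z = PT.kx V (zpowers z) := by
  ext c
  constructor
  · rintro ⟨h1, h2, -⟩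
    refine ⟨fun x hx => ?_, fun w hw => h2 w (by rw [ws_eq]; exact hw)⟩
    obtain ⟨n, rfl⟩ := mem_zpowers_iff.1 hx
    have h : Commute c z := mem_centralizer_singleton_iff.1 h1
    exact (h.zpow_right n).eq
  · intro h
    have h' := (PT.kx V (zpowers z)).inv_mem h
    refine ⟨mem_centralizer_singleton_iff.2 (h.1 z (mem_zpowers z)), fun w hw => h.2 w (by rwa [← ws_eq]),
      fun w hw => ?_⟩
    have h1 := h'.2 w (by rwa [← ws_eq])
    rwa [inv_inv] at h1

end basic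

variable {G : Type u} [Group G] [Finite G] {S : Sylow 2 G} {P : Subgroup G}

theorem zc_eq (h : Hyp S P) (hc : Nat.card (zl (S : Subgroup G) P) = 4) {z : G} (hz : z ∈ zc (S : Subgroup G))
    (hz1 : z ≠ 1) : zc (S : Subgroup G) = zpowers z := by
  apply le_antisymm
  · intro x hx
    by_cases hx1 : x = 1
    · rw [hx1]; exact one_mem _
    · rw [eq_of_zc_four h.ctx h.star h.nonLoc hc hz hz1 hx hx1]; exact mem_zpowers z
  · exact zpowers_le.2 hz

theorem card_zc (h : Hyp S P) (hc : Nat.card (zl (S : Subgroup G) P) = 4) : Nat.card (zc (S : Subgroup G)) = 2 := by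
  obtain ⟨z, hz1⟩ := Subgroup.ne_bot_iff_exists_ne_one.1
    (MinSimple.Basic.zc_ne_bot S.isPGroup' (h.ctx.sylow_ne_bot S))
  have hz1' : (z : G) ≠ 1 := fun e => hz1 (Subtype.ext e)
  rw [zc_eq h hc z.2 hz1', Nat.card_zpowers]
  exact orderOf_eq_prime (MinSimple.VModule.zc_sq _ _ z.2) hz1'

/-- **`FullK` for `|V_P| = 4`**: `N_z = z`. -/
theorem fullK_iff (h : Hyp S P) (hc : Nat.card (zl (S : Subgroup G) P) = 4) {z : G}
    (hz : z ∈ zc (S : Subgroup G)) (hz1 : z ≠ 1) :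
    FullK (zl (S : Subgroup G) P) (zc (S : Subgroup G)) ↔
      ∀ w ∈ Geo.ws (zl (S : Subgroup G) P) z, (∀ k ∈ Geo.kq (zl (S : Subgroup G) P) z, k * w = w * k) →
        w ∈ zpowers z := by
  have h2 := card_zc h hc
  rw [zc_eq h hc hz hz1] at h2 ⊢
  have hne : zpowers z ≠ ⊥ := by rw [Ne, zpowers_eq_bot]; exact hz1
  constructor
  · intro hf w hw hk
    exact hf.ntr hne (by rwa [← ws_eq]) fun k hk' => hk k (by rwa [kq_eq])
  · intro hn
    refine fullK_of_ntr h2 fun w hw hk => hn w (by rwa [ws_eq]) fun k hk' => hk k (by rwa [← kq_eq])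

end Cfsg.Agent.Omega.NO3S.FullTwo

end

end
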